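import Cfsg.Agent.Lib.Leech.Co1Cent.E8
import Cfsg.Agent.Lib.Leech.Index
import Cfsg.Agent.Lib.Leech.Mod2

/-!
An automorphism of the Leech lattice attached to a sextet, commuting with the octad involution.
-/

set_option autoImplicit false
set_option maxRecDepth 100000

namespace Cfsg.Agent.Leech.Co1Cent

open Cfsg Matrix
open Cfsg.Agent.Golay (idx pt toSet inCode idx_lt pt_idx basisN toWord)

/-- The tetrad of a point. -/
def tetOf (p : GolayPt) : ℕ := tetTab.getD (idx p) 0

/-- Twice the matrix of the map. -/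
def xiEnt (p q : GolayPt) : ℤ :=
  (if tetOf p = 0 then -1 else 1) *
    ((if p = q then 2 else 0) - (if tetOf q = tetOf p then 1 else 0))

/-- The matrix. -/
def xiMat : Matrix GolayPt GolayPt ℤ := Matrix.of xiEnt

theorem xiMat_sq : ∀ p q, (xiMat * xiMat) p q = if p = q then 4 else 0 := by decide +kernel

theorem xiEnt_symm : ∀ p q : GolayPt, xiEnt q p = xiEnt p q := by decide +kernel

theorem xiMat_symm (p q : GolayPt) : xiMat q p = xiMat p q := xiEnt_symm p q

/-- The linear map. -/
def xiA : (GolayPt → ℤ) →+ (GolayPt → ℤ) where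
  toFun x := xiMat *ᵥ x
  map_zero' := Matrix.mulVec_zero _
  map_add' := Matrix.mulVec_add _

theorem xiA_sq (x : GolayPt → ℤ) : xiA (xiA x) = (4 : ℤ) • x := by
  show xiMat *ᵥ (xiMat *ᵥ x) = _
  rw [Matrix.mulVec_mulVec, show xiMat * xiMat = (4 : ℤ) • (1 : Matrix GolayPt GolayPt ℤ) from
    Matrix.ext fun p q => by rw [xiMat_sq]; simp [Matrix.one_apply], Matrix.smul_mulVec,
    Matrix.one_mulVec]

theorem dot_xiA (x : GolayPt → ℤ) : sqNorm (xiA x) = 4 * sqNorm x := by
  have h1 : dotInt (xiA x) (xiA x) = dotInt x (xiA (xiA x)) := by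
    simp only [dotInt, xiA, AddMonoidHom.coe_mk, ZeroHom.coe_mk, Matrix.mulVec, dotProduct,
      Finset.sum_mul, Finset.mul_sum]
    rw [Finset.sum_comm]
    refine Finset.sum_congr rfl fun p _ => Finset.sum_congr rfl fun q _ =>
      Finset.sum_congr rfl fun r _ => ?_
    rw [xiMat_symm p q]
    ring
  rw [← dotInt_self, h1, xiA_sq, ← dotInt_self]
  simp only [dotInt, Pi.smul_apply, smul_eq_mul, Finset.mul_sum]
  exact Finset.sum_congr rfl fun p _ => by ring

/-- The set of residues congruent to `m + 2` modulo 4. -/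
def maskOf (v : GolayPt → ℤ) : ℕ :=
  (List.range 24).foldl
    (fun acc i => if (v (pt i) - v none) % 4 = 2 then acc + 2 ^ i else acc) 0

/-- A test that half a vector lies in the lattice. -/
def halfOK (w : GolayPt → ℤ) : Prop :=
  (∀ p, (2 : ℤ) ∣ w p) ∧ inCode (maskOf (fun p => w p / 2)) = true ∧
    (∀ p, (4 : ℤ) ∣ w p / 2 - w none / 2 - 2 * bit (toSet (maskOf (fun q => w q / 2))) p) ∧
    (8 : ℤ) ∣ (∑ p, w p / 2) - 4 * (w none / 2)

instance (w : GolayPt → ℤ) : Decidable (halfOK w) := by unfold halfOK; infer_instance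

theorem half_mem {w : GolayPt → ℤ} (h : halfOK w) : w ∈ leechLattice.map dbl := by
  obtain ⟨h1, h2, h3, h4⟩ := h
  refine ⟨fun p => w p / 2, mem_lattice_iff.2 ⟨_, _, ?_, h3, h4⟩, funext fun p => ?_⟩
  · exact Golay.mem_supports_iff.2 ⟨_, h2, rfl⟩
  · show 2 • (w p / 2) = w p
    rw [nsmul_eq_mul, Nat.cast_ofNat, Int.mul_ediv_cancel' (h1 p)]

theorem fours_half : ∀ i : GolayPt, halfOK (xiA (Pi.single i 4 - Pi.single none 4)) ∧
    halfOK (xiA (Pi.single none 8)) := by
  decide +kernel

theorem reps_half : halfOK (xiA (rep 1 ∅)) ∧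
    ∀ b ∈ basisN, halfOK (xiA (rep 0 (toSet b))) := by
  decide +kernel

/-- The vectors sent into twice the lattice. -/
def xiS : AddSubgroup (GolayPt → ℤ) := (leechLattice.map dbl).comap xiA

theorem zero_part_mem {x : GolayPt → ℤ} (hx : IsLVec 0 ∅ x) : x ∈ xiS := by
  obtain ⟨y, hy, ⟨k, hk⟩⟩ := hx.param empty_mem_code
  have e : x = ∑ i, y i • (Pi.single i 4 - Pi.single none 4 : GolayPt → ℤ) +
      k • Pi.single none 8 := by
    funext j
    have h4 : ∀ i : GolayPt, ((y i • (Pi.single i 4 - Pi.single none 4 : GolayPt → ℤ)) : GolayPt → ℤ) j =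
        (if i = j then 4 * y i else 0) - y i * (Pi.single none 4 : GolayPt → ℤ) j := by
      intro i
      by_cases h : i = j
      · subst h; simp [mul_comm, mul_sub]
      · simp [h, Ne.symm h, mul_sub]
    rw [Pi.add_apply, Finset.sum_apply, Finset.sum_congr rfl (fun i _ => h4 i),
      Finset.sum_sub_distrib, Finset.sum_ite_eq' Finset.univ j, if_pos (Finset.mem_univ _),
      ← Finset.sum_mul, Pi.smul_apply, smul_eq_mul]
    rw [sub_zero] at hk
    rw [hk, hy j]
    simp [bit, Pi.single_apply]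
    split_ifs <;> ring
  rw [e]
  exact add_mem (sum_mem fun i _ => zsmul_mem (show _ ∈ xiS from half_mem (fours_half i).1) _)
    (zsmul_mem (show (Pi.single none 8 : GolayPt → ℤ) ∈ xiS from half_mem (fours_half none).2) _)

theorem leech_le_xiS : leechLattice ≤ xiS := by
  classical
  have hdiff : ∀ {m : ℤ} {c : Finset GolayPt} {x y : GolayPt → ℤ}, IsLVec m c x → IsLVec m c y →
      x - y ∈ xiS := by
    intro m c x y hx hy
    refine zero_part_mem ?_
    have := hx.add hy.neg
    rwa [add_neg_cancel, symmDiff_self, ← sub_eq_add_neg] at this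
  have h0 : rep 0 ∅ ∈ xiS := zero_part_mem (rep_isLVec empty_mem_code)
  let W : Submodule (ZMod 2) (GolayPt → ZMod 2) :=
    { carrier := {w | w ∈ golayCode ∧ rep 0 (support₂ w) ∈ xiS}
      zero_mem' := by
        refine ⟨zero_mem _, ?_⟩
        rw [show support₂ (0 : GolayPt → ZMod 2) = ∅ by simp [support₂]]
        exact h0
      add_mem' := by
        rintro v w ⟨hv, hv'⟩ ⟨hw, hw'⟩
        refine ⟨add_mem hv hw, ?_⟩
        have hcv : support₂ v ∈ code := ⟨v, hv, rfl⟩
        have hcw : support₂ w ∈ code := ⟨w, hw, rfl⟩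
        have e : support₂ (v + w) = symmDiff (support₂ v) (support₂ w) := by
          ext p
          rcases zmod2_cases (v p) with a | a <;> rcases zmod2_cases (w p) with b | b <;>
            simp [support₂, Finset.mem_symmDiff, a, b, show (1 : ZMod 2) + 1 = 0 by decide]
        rw [e]
        have h1 := (rep_isLVec (m := 0) hcv).add (rep_isLVec (m := 0) hcw)
        rw [add_zero] at h1
        have := sub_mem (add_mem hv' hw') (hdiff h1 (rep_isLVec (symmDiff_mem_code hcv hcw)))
        rwa [sub_sub_cancel] at this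
      smul_mem' := by
        intro a w hw
        rcases zmod2_cases a with rfl | rfl
        · refine ⟨by rw [zero_smul]; exact zero_mem _, ?_⟩
          rw [zero_smul, show support₂ (0 : GolayPt → ZMod 2) = ∅ by simp [support₂]]
          exact h0
        · rwa [one_smul] }
  have hW : golayCode ≤ W := by
    rw [Golay.golayCode_eq]
    rintro _ ⟨m, -, rfl⟩
    refine Golay.toWord_combAux_mem W _ _ fun b hb => ⟨Golay.basisN_mem b hb, ?_⟩
    rw [Golay.support₂_toWord]
    exact half_mem (reps_half.2 b hb)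
  have h1 : rep 1 ∅ ∈ xiS := half_mem reps_half.1
  intro x hx
  obtain ⟨m, hm, c, hc, hl⟩ := exists_normal_form hx
  obtain ⟨w, hw, hwc⟩ := hc
  have hc0 : rep 0 c ∈ xiS := by
    have := (hW hw).2
    rwa [show support₂ w = c from hwc] at this
  rcases hm with rfl | rfl
  · have := add_mem (hdiff hl (rep_isLVec ⟨w, hw, hwc⟩)) hc0
    rwa [sub_add_cancel] at this
  · have h2 := (rep_isLVec (m := 1) empty_mem_code).add (rep_isLVec (m := 0) (c := c) ⟨w, hw, hwc⟩)
    rw [show (1 : ℤ) + 0 = 1 from rfl, show symmDiff (∅ : Finset GolayPt) c = c from bot_symmDiff c] at h2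
    have := add_mem (hdiff hl h2) (add_mem h1 hc0)
    rwa [sub_add_cancel] at this

/-- Half the linear map. -/
def xiFun (x : GolayPt → ℤ) : GolayPt → ℤ := fun p => xiA x p / 2

theorem xiFun_spec {x : GolayPt → ℤ} (hx : x ∈ leechLattice) :
    xiFun x ∈ leechLattice ∧ xiA x = 2 • xiFun x := by
  obtain ⟨z, hz, he⟩ := leech_le_xiS hx
  have : xiFun x = z := by
    funext p
    show xiA x p / 2 = z p
    rw [← he]
    show (2 • z) p / 2 = z p
    simp
  rw [this]
  exact ⟨hz, he.symm⟩

theorem xiFun_involutive {x : GolayPt → ℤ} (hx : x ∈ leechLattice) : xiFun (xiFun x) = x := by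
  obtain ⟨h1, h2⟩ := xiFun_spec hx
  obtain ⟨-, h3⟩ := xiFun_spec h1
  have h4 := congrArg xiA h2
  rw [xiA_sq, map_nsmul, h3] at h4
  funext p
  have := congrFun h4 p
  simp at this
  omega

/-- The map on the lattice. -/
noncomputable def xiPerm : Equiv.Perm leechLattice where
  toFun v := ⟨xiFun v, (xiFun_spec v.2).1⟩
  invFun v := ⟨xiFun v, (xiFun_spec v.2).1⟩
  left_inv v := Subtype.ext (xiFun_involutive v.2)
  right_inv v := Subtype.ext (xiFun_involutive v.2)

/-- The sextet automorphism. -/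
noncomputable def xi : Co0 := ⟨xiPerm, fun v w => by
    refine Subtype.ext (funext fun p => ?_)
    show xiA ((v : GolayPt → ℤ) + w) p / 2 = xiA v p / 2 + xiA w p / 2
    rw [map_add, Pi.add_apply, Int.add_ediv_of_dvd_left]
    rw [(xiFun_spec v.2).2]
    exact ⟨xiFun v p, by simp⟩,
  fun v => by
    show sqNorm (xiFun v) = _
    have h := dot_xiA (v : GolayPt → ℤ)
    rw [(xiFun_spec v.2).2, sqNorm_two_nsmul] at h
    omega⟩

theorem coe_xi_smul (v : leechLattice) :
    ((xi • v : leechLattice) : GolayPt → ℤ) = xiFun v := rfl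

theorem xiEnt_block : ∀ p q : GolayPt, xiEnt p q ≠ 0 → (p ∈ octO ↔ q ∈ octO) := by decide +kernel

theorem xiMat_block (p q : GolayPt) (h : xiMat p q ≠ 0) : p ∈ octO ↔ q ∈ octO := xiEnt_block p q h

theorem xiFun_flip {x : GolayPt → ℤ} (hx : x ∈ leechLattice) :
    xiFun (signedPerm 1 octO x) = signedPerm 1 octO (xiFun x) := by
  have e : xiA (signedPerm 1 octO x) = signedPerm 1 octO (xiA x) := by
    funext p
    have h : ∀ q, xiMat p q * signedPerm 1 octO x q =
        (if p ∈ octO then -1 else 1) * (xiMat p q * x q) := by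
      intro q
      by_cases h0 : xiMat p q = 0
      · simp [h0]
      · have := xiMat_block p q h0
        simp only [signedPerm, Equiv.Perm.one_symm, Equiv.Perm.coe_one, id_eq, this]
        split_ifs <;> ring
    show ∑ q, xiMat p q * signedPerm 1 octO x q = signedPerm 1 octO (fun p => ∑ q, xiMat p q * x q) p
    rw [Finset.sum_congr rfl (fun q _ => h q), ← Finset.mul_sum]
    simp only [signedPerm, Equiv.Perm.one_symm, Equiv.Perm.coe_one, id_eq]
    split_ifs <;> ring
  funext p
  show xiA (signedPerm 1 octO x) p / 2 = _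
  rw [e, (xiFun_spec hx).2]
  simp only [signedPerm, Equiv.Perm.one_symm, Equiv.Perm.coe_one, id_eq, Pi.smul_apply,
    nsmul_eq_mul, Nat.cast_ofNat]
  split_ifs <;> omega

end Cfsg.Agent.Leech.Co1Cent
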