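import Cfsg.Agent.Lib.Leech.Co1Cent.Kernel
import Cfsg.Agent.Lib.Leech.Simplicity
import Cfsg.Agent.Lib.LargeExtraspecial.Sections

/-!
The centralizer in `Co₁` of the image of the octad involution: it is covered by the centralizer in
`Co₀`, and the quotient by the image of the kernel is `Ω⁺₈(2)`.
-/

set_option autoImplicit false
set_option maxRecDepth 100000

namespace Cfsg.Agent.Leech.Co1Cent

open Cfsg Cfsg.Agent.Reflections
open scoped Pointwise commutatorElement

/-- The projection onto `Co₁`. -/
noncomputable abbrev mk1 : Co0 →* Spor.Co1 := QuotientGroup.mk' _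

/-- The involution. -/
noncomputable def zC : Spor.Co1 := mk1 epsO

/-- Its centralizer. -/
noncomputable abbrev C1 : Subgroup Spor.Co1 := Subgroup.centralizer ({zC} : Set Spor.Co1)

theorem mk1_eq_iff {g h : Co0} : mk1 g = mk1 h ↔ h = g ∨ h = negOne * g := by
  rw [QuotientGroup.mk'_eq_mk']
  constructor
  · rintro ⟨c, hc, rfl⟩
    rcases center_eq_or c hc with rfl | rfl
    · exact Or.inl (mul_one g)
    · exact Or.inr (Subgroup.mem_center_iff.1 negOne_mem_center g)
  · rintro (rfl | rfl)
    · exact ⟨1, one_mem _, mul_one _⟩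
    · exact ⟨negOne, negOne_mem_center, Subgroup.mem_center_iff.1 negOne_mem_center g⟩

theorem mono_mul (σ τ : M24) {c d : Finset GolayPt} (hc : c ∈ code) (hd : d ∈ code)
    (h : symmDiff c (σ.1 • d) ∈ code) : mono σ hc * mono τ hd = mono (σ * τ) h := by
  refine ext_frame fun i => Subtype.ext ?_
  rw [mul_smul, coe_mono_smul, coe_mono_smul, coe_mono_smul, signedPerm_comp, Subgroup.coe_mul]

theorem mono_one_one : mono 1 empty_mem_code = 1 := by
  refine ext_frame fun i => Subtype.ext ?_
  rw [coe_mono_smul, one_smul]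
  exact signedPerm_one_empty _

theorem mono_congr {σ τ : M24} {c d : Finset GolayPt} {hc : c ∈ code} {hd : d ∈ code}
    (h1 : σ = τ) (h2 : c = d) : mono σ hc = mono τ hd := by
  subst h1; subst h2; rfl

theorem frame_ne_neg (p : GolayPt) : -(frame p : GolayPt → ℤ) ≠ (frame p : GolayPt → ℤ) := by
  intro h
  have := congrFun h p
  simp [frame] at this

theorem smul_epsO_frame {p : GolayPt} (hp : p ∉ octO) : epsO • frame p = frame p := by
  refine Subtype.ext ?_
  rw [coe_epsO_smul]
  funext q
  show signedPerm 1 octO (frame p : GolayPt → ℤ) q = _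
  simp only [signedPerm, show ∀ r, (Equiv.symm (1 : Equiv.Perm GolayPt)) r = r from fun _ => rfl]
  split
  · rename_i hq
    have : q ≠ p := fun e => hp (e ▸ hq)
    simp [frame, this]
  · rfl

theorem smul_epsO_frame' {p : GolayPt} (hp : p ∈ octO) :
    ((epsO • frame p : leechLattice) : GolayPt → ℤ) = -(frame p : GolayPt → ℤ) := by
  rw [coe_epsO_smul]
  funext q
  show signedPerm 1 octO (frame p : GolayPt → ℤ) q = _
  simp only [signedPerm, show ∀ r, (Equiv.symm (1 : Equiv.Perm GolayPt)) r = r from fun _ => rfl]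
  split
  · rfl
  · rename_i hq
    have : q ≠ p := fun e => hq (e ▸ hp)
    simp [frame, this]

theorem exists_not_octO : ∃ p : GolayPt, p ∉ octO := by decide +kernel

theorem epsO_sq : epsO * epsO = 1 := by
  rw [epsO, mono_mul 1 1 _ _ (by rw [Subgroup.coe_one, one_smul, symmDiff_self]; exact empty_mem_code),
    ← mono_one_one]
  exact mono_congr (mul_one 1) (by rw [Subgroup.coe_one, one_smul, symmDiff_self]; rfl)

theorem orderOf_zC : orderOf zC = 2 := by
  refine orderOf_eq_prime ?_ ?_
  · rw [pow_two, zC, ← map_mul, epsO_sq, map_one]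
  · intro h
    rw [zC, ← map_one mk1, mk1_eq_iff] at h
    obtain ⟨p, hp⟩ := exists_not_octO
    rcases h with h | h
    · have := smul_epsO_frame' none_mem_octO
      rw [← h, one_smul] at this
      exact frame_ne_neg none this.symm
    · have h1 : epsO = negOne := by
        rcases mk1_eq_iff.1 (show mk1 1 = mk1 epsO by
          rw [eq_comm, mk1_eq_iff]; exact Or.inr h) with h' | h'
        · exfalso
          have := smul_epsO_frame' none_mem_octO
          rw [h', one_smul] at this
          exact frame_ne_neg none this.symm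
        · rw [h', mul_one]
      have := smul_epsO_frame hp
      rw [h1, negOne_smul] at this
      exact frame_ne_neg p (congrArg Subtype.val this)

/-- No element carries the involution to its negative. -/
theorem not_anticommute (g : Co0) : g * epsO ≠ negOne * (epsO * g) := by
  intro h
  have hL : ∀ p, p ∉ octO → ((g • frame p : leechLattice) : GolayPt → ℤ) ∈ L8 := by
    intro p hp
    rw [mem_L8_iff]
    have h1 := congrArg (fun x : Co0 => x • frame p) h
    simp only [mul_smul, smul_epsO_frame hp, negOne_smul] at h1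
    exact (neg_eq_iff_eq_neg.2 h1).symm
  classical
  let O' : Finset GolayPt := Finset.univ.filter (· ∉ octO)
  let f1 : GolayPt → (GolayPt → ℤ) := fun p => ((g • frame p : leechLattice) : GolayPt → ℤ)
  let f2 : GolayPt → (GolayPt → ℤ) := fun p => (frame p : GolayPt → ℤ)
  have hne : ∀ p, f2 p ≠ 0 := fun p e => by simpa [f2, frame] using congrFun e p
  have hne1 : ∀ p, f1 p ≠ 0 := by
    intro p e
    have := congrArg sqNorm e
    simp only [f1, sqNorm_smul] at this
    exact hne p (sqNorm_eq_zero.1 (this.trans (sqNorm_eq_zero.2 rfl)))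
  have hdot : ∀ p q, p ≠ q → dotInt (f2 p) (f2 q) = 0 := by
    intro p q hpq
    simp only [f2, dotInt_frame]
    simp [frame, Pi.single_eq_of_ne hpq]
  have hcross : ∀ p q, p ∉ octO → q ∉ octO → dotInt (f1 p) (f2 q) = 0 := by
    intro p q hp hq
    rw [dotInt_comm]
    simp only [f2, dotInt_frame]
    simp [f1, (hL p hp).2 q hq]
  have hinj1 : Set.InjOn f1 O' := by
    intro p _ q _ e
    by_contra hpq
    have h2 := hdot p q hpq
    rw [← dotInt_smul g] at h2
    change dotInt (f1 p) (f1 q) = 0 at h2
    rw [e, dotInt_self] at h2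
    exact hne1 q (sqNorm_eq_zero.1 h2)
  have hinj2 : Set.InjOn f2 O' := by
    intro p _ q _ e
    by_contra hpq
    have h2 := hdot p q hpq
    rw [e, dotInt_self] at h2
    exact hne q (sqNorm_eq_zero.1 h2)
  have hdisj : Disjoint (O'.image f1) (O'.image f2) := by
    rw [Finset.disjoint_left]
    intro x hx hx'
    obtain ⟨p, hp, rfl⟩ := Finset.mem_image.1 hx
    obtain ⟨q, hq, e⟩ := Finset.mem_image.1 hx'
    have h2 := hcross p q (Finset.mem_filter.1 hp).2 (Finset.mem_filter.1 hq).2
    rw [e, dotInt_self] at h2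
    exact hne1 p (sqNorm_eq_zero.1 h2)
  have hb := rat_orth_card_le (R := O'.image f1 ∪ O'.image f2) ?_ ?_
  · rw [Finset.card_union_of_disjoint hdisj, Finset.card_image_of_injOn hinj1,
      Finset.card_image_of_injOn hinj2] at hb
    have : O'.card = 16 := by decide +kernel
    omega
  · intro x hx
    rcases Finset.mem_union.1 hx with hx | hx <;> obtain ⟨p, -, rfl⟩ := Finset.mem_image.1 hx
    · exact hne1 p
    · exact hne p
  · intro x hx y hy hxy
    rcases Finset.mem_union.1 hx with hx | hx <;> obtain ⟨p, hp, rfl⟩ := Finset.mem_image.1 hx <;>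
    rcases Finset.mem_union.1 hy with hy | hy <;> obtain ⟨q, hq, rfl⟩ := Finset.mem_image.1 hy
    · rw [show dotInt (f1 p) (f1 q) = _ from dotInt_smul g _ _]
      exact hdot p q fun e => hxy (by rw [e])
    · exact hcross p q (Finset.mem_filter.1 hp).2 (Finset.mem_filter.1 hq).2
    · rw [dotInt_comm]
      exact hcross q p (Finset.mem_filter.1 hq).2 (Finset.mem_filter.1 hp).2
    · exact hdot p q fun e => hxy (by rw [e])

theorem mk1_mem {g : Co0} (hg : g ∈ C0) : mk1 g ∈ C1 := by
  rw [Subgroup.mem_centralizer_singleton_iff, zC, ← map_mul, ← map_mul, mem_C0.1 hg]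

/-- The covering map. -/
noncomputable def cov : ↥C0 →* ↥C1 :=
  (mk1.comp C0.subtype).codRestrict _ fun g => mk1_mem g.2

theorem cov_surjective : Function.Surjective cov := by
  rintro ⟨x, hx⟩
  obtain ⟨g, rfl⟩ := QuotientGroup.mk'_surjective _ x
  rw [Subgroup.mem_centralizer_singleton_iff, zC, ← map_mul, ← map_mul] at hx
  rcases mk1_eq_iff.1 hx.symm with h | h
  · exact ⟨⟨g, mem_C0.2 h⟩, rfl⟩
  · exact absurd h (not_anticommute g)

theorem cov_eq_iff {g h : ↥C0} : cov g = cov h ↔ h = g ∨ h = negC * g := by
  rw [Subtype.ext_iff]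
  show mk1 g.1 = mk1 h.1 ↔ _
  rw [mk1_eq_iff]
  exact or_congr (Subtype.ext_iff (a1 := h) (a2 := g)).symm
    (Subtype.ext_iff (a1 := h) (a2 := negC * g)).symm

/-- The subgroup that becomes `O₂` of the centralizer. -/
noncomputable def QC : Subgroup ↥C1 := rep8.ker.map cov

instance QC_normal : QC.Normal := (MonoidHom.normal_ker rep8).map _ cov_surjective

/-- The quotient is the image of the representation. -/
theorem quot_equiv : Nonempty (↥C1 ⧸ QC ≃* ↥(commutator O8)) := by
  let ψ : ↥C0 →* ↥C1 ⧸ QC := (QuotientGroup.mk' QC).comp cov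
  have hs : Function.Surjective ψ := (QuotientGroup.mk'_surjective _).comp cov_surjective
  have hk : ψ.ker = rep8.ker := by
    ext g
    rw [MonoidHom.mem_ker]
    show (QuotientGroup.mk' QC) (cov g) = 1 ↔ _
    rw [QuotientGroup.mk'_apply, QuotientGroup.eq_one_iff]
    constructor
    · rintro ⟨k, hk, e⟩
      rcases cov_eq_iff.1 e with h | h
      · rw [h]; exact hk
      · rw [h, MonoidHom.mem_ker, map_mul, rep8_negC, one_mul]; exact hk
    · intro h; exact ⟨g, h, rfl⟩
  exact ⟨((QuotientGroup.quotientKerEquivOfSurjective ψ hs).symm.trans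
    (QuotientGroup.quotientMulEquivOfEq hk)).trans
      ((QuotientGroup.quotientKerEquivRange rep8).trans (MulEquiv.subgroupCongr img_eq))⟩

theorem simple_commutator : IsSimpleGroup ↥(commutator O8) := by
  have h := (UnitaryOrthogonal.pomega_plus (F := ZMod 2) 2 (by norm_num)).1
  have hc := center_commutator
  unfold Cfsg.POmega Cfsg.Omega at h
  rw [← Reflections.coe_qPlus] at h
  haveI := h
  exact MulEquiv.isSimpleGroup
    ((QuotientGroup.quotientMulEquivOfEq hc).trans QuotientGroup.quotientBot).symm

theorem not_solvable_commutator : ¬ Group.IsSolvable ↥(commutator O8) := by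
  haveI := simple_commutator
  intro hsol
  have hc := IsSimpleGroup.comm_iff_isSolvable.2 hsol
  have htop : Subgroup.center ↥(commutator O8) = ⊤ :=
    eq_top_iff.2 fun x _ => Subgroup.mem_center_iff.2 fun y => hc y x
  rw [center_commutator] at htop
  exact bot_ne_top htop

end Cfsg.Agent.Leech.Co1Cent
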