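import Cfsg.Agent.Lib.Leech.Co1Cent.KerTables
import Cfsg.Agent.Lib.Golay.Transitive

/-!
The image of the kernel is extraspecial of order `2⁹`, self-centralizing, and contains another
conjugate of the involution.
-/

set_option autoImplicit false
set_option maxRecDepth 100000

namespace Cfsg.Agent.Leech.Co1Cent

open Cfsg Cfsg.Agent.Reflections
open Cfsg.Agent.Golay (idx pt toSet octadO idx_lt pt_idx idx_pt Tab tab_permOf permOf isPermTab
  checkAut inCode comp idTab bp maps popc)
open scoped Pointwise commutatorElement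

/-- The permutation of an index. -/
noncomputable def sigT (i : Fin 16) : M24 :=
  ⟨permOf (tabN i) (tab_facts.1 i).1, (tab_permOf (tab_facts.1 i).1).mem_M24 (tab_facts.1 i).2.1⟩

theorem tab_sigT (i : Fin 16) : Tab (sigT i).1 (tabN i) := tab_permOf (tab_facts.1 i).1

theorem sigT_fix (i : Fin 16) : ∀ p ∈ octO, (sigT i).1 p = p := fun p hp => by
  rw [(tab_sigT i).apply, tabs6_facts.2.1 _ (tabN_mem i) p hp, pt_idx]

theorem code_mask (j : Fin 32) : toSet (maskN j) ∈ code :=
  Golay.mem_supports_iff.2 ⟨_, (maskN_spec j).1, rfl⟩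

theorem disjoint_mask {n : ℕ} (h : n &&& octadO = 0) : ∀ p ∈ toSet n, p ∉ octO := by
  intro p hp hp'
  have : p ∈ toSet (n &&& octadO) := Golay.toSet_inter n octadO ▸ Finset.mem_inter.2 ⟨hp, hp'⟩
  rw [h] at this
  simp at this

theorem kerData_el (i : Fin 16) (j : Fin 32) : KerData (sigT i) (toSet (maskN j)) :=
  ⟨sigT_fix i, disjoint_mask (maskN_spec j).2⟩

/-- The elements of the kernel, up to sign. -/
noncomputable def el (i : Fin 16) (j : Fin 32) : ↥C0 :=
  ⟨mono (sigT i) (code_mask j), kerData_mem _ (kerData_el i j)⟩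

theorem el_mem (i : Fin 16) (j : Fin 32) : el i j ∈ rep8.ker :=
  MonoidHom.mem_ker.2 (rep8_eq_one fun x => Or.inl (res_kerData _ (kerData_el i j) x))

theorem mem_ker_iff {g : ↥C0} (h : g ∈ rep8.ker) :
    ∃ i j, g = el i j ∨ g = negC * el i j := by
  obtain ⟨σ, c, hc, hk, e⟩ := ker_cases (MonoidHom.mem_ker.1 h)
  obtain ⟨l, hl, ht⟩ := exists_tab6 (σ := σ) fun j hj => hk.1 _ (tabs6_facts.2.2.1 ⟨j, hj⟩)
  obtain ⟨i, rfl⟩ := tabN_surj hl
  obtain ⟨n, hn, rfl⟩ := Golay.mem_supports_iff.1 hc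
  have hz : n &&& octadO = 0 := by
    refine Golay.toSet_injOn ?_ (by norm_num) ?_
    · exact lt_of_le_of_lt Nat.and_le_left (Golay.inCode_lt hn)
    · rw [← Golay.toSet_inter]
      ext p
      simp only [Finset.mem_inter]
      constructor
      · rintro ⟨h1, h2⟩
        exact absurd h2 (hk.2 p h1)
      · intro h1
        simp at h1
  have hm : n ∈ maskF := by
    refine List.mem_filter.2 ⟨List.mem_map.2 ⟨n % 4096,
      List.mem_range.2 (Nat.mod_lt _ (by norm_num)), ?_⟩, by simp [hz]⟩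
    simpa [inCode] using hn
  obtain ⟨j, rfl⟩ := maskN_surj hm
  obtain rfl : σ = sigT i := Subtype.ext (Golay.tab_unique ht (tab_sigT i))
  exact ⟨i, j, e⟩

theorem mk1_mono_inj {σ τ : M24} {c d : Finset GolayPt} {hc : c ∈ code} {hd : d ∈ code}
    (h1 : ∀ p ∈ c, p ∉ octO) (h2 : ∀ p ∈ d, p ∉ octO)
    (h : mk1 (mono σ hc) = mk1 (mono τ hd)) : σ = τ ∧ c = d := by
  rcases mk1_eq_iff.1 h with e | e
  · obtain ⟨a, b⟩ := mono_injective e
    exact ⟨a.symm, b.symm⟩
  · exfalso
    have h3 := congrArg (fun x : Co0 => ((x • frame (σ.1.symm none) : leechLattice) : GolayPt → ℤ)) e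
    simp only [mul_smul, negOne_smul, AddSubgroup.coe_neg, coe_mono_frame,
      Equiv.apply_symm_apply] at h3
    have h4 := congrFun h3 none
    rw [if_neg fun hp => h1 none hp none_mem_octO] at h4
    by_cases hτ : τ.1 (σ.1.symm none) = none
    · rw [hτ, if_neg fun hp => h2 none hp none_mem_octO] at h4
      simp at h4
    · rw [Pi.single_eq_of_ne (Ne.symm hτ)] at h4
      simp at h4

theorem smul_mask (i : Fin 16) (j : Fin 32) :
    (sigT i).1 • toSet (maskN j) = toSet (imgMask (tabN i) (maskN j)) :=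
  (tab_sigT i).smul_toSet (tab_facts.2.2.2.2.2.2 i j)

theorem toSet_xor (a b : ℕ) : symmDiff (toSet a) (toSet b) = toSet (a ^^^ b) := by
  ext p
  simp only [Finset.mem_symmDiff, Golay.mem_toSet, Nat.testBit_xor]
  cases a.testBit (idx p) <;> cases b.testBit (idx p) <;> simp

theorem el_mul (i i' : Fin 16) (j j' : Fin 32) :
    ∃ h : toSet (maskN j ^^^ imgMask (tabN i) (maskN j')) ∈ code,
      (el i j * el i' j').1 = mono (sigT i * sigT i') h ∧
      ∀ p ∈ toSet (maskN j ^^^ imgMask (tabN i) (maskN j')), p ∉ octO := by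
  have hsd : symmDiff (toSet (maskN j)) ((sigT i).1 • toSet (maskN j')) =
      toSet (maskN j ^^^ imgMask (tabN i) (maskN j')) := by rw [smul_mask, toSet_xor]
  have hcode : toSet (maskN j ^^^ imgMask (tabN i) (maskN j')) ∈ code := by
    rw [← hsd]
    refine symmDiff_mem_code (code_mask j) ?_
    have : (sigT i).1 • code = code := MulAction.mem_stabilizer_iff.1 (sigT i).2
    rw [← this]
    exact Set.smul_mem_smul_set (code_mask j')
  refine ⟨hcode, ?_, fun p hp => ?_⟩
  · show mono _ _ * mono _ _ = _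
    rw [mono_mul _ _ _ _ (hsd ▸ hcode)]
    exact mono_congr rfl hsd
  · rw [← hsd, Finset.mem_symmDiff] at hp
    rcases hp with ⟨hp, -⟩ | ⟨hp, -⟩
    · exact disjoint_mask (maskN_spec j).2 p hp
    · intro hpo
      obtain ⟨q, hq, rfl⟩ := Finset.mem_smul_finset.1 hp
      have hq' : q ∈ octO := by
        have h5 : (sigT i).1.symm ((sigT i).1 • q) ∈ octO := (fix_symm (sigT_fix i) _).2 hpo
        simpa using h5
      exact disjoint_mask (maskN_spec j').2 q hq hq'

/-- The index of the identity table. -/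
noncomputable def i0 : Fin 16 := tab_facts.2.2.2.1.choose

/-- The index of the empty mask. -/
noncomputable def j0 : Fin 32 := tab_facts.2.2.2.2.1.choose

/-- The index of the complement of the octad. -/
noncomputable def jc : Fin 32 := tab_facts.2.2.2.2.2.1.choose

theorem tab_i0 : tabN i0 = idTab := tab_facts.2.2.2.1.choose_spec
theorem mask_j0 : maskN j0 = 0 := tab_facts.2.2.2.2.1.choose_spec
theorem mask_jc : maskN jc = ocMask := tab_facts.2.2.2.2.2.1.choose_spec

theorem sigT_i0 : sigT i0 = 1 :=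
  Subtype.ext (Golay.tab_unique (tab_sigT i0) (by rw [tab_i0]; exact Golay.tab_one))

theorem sigT_sq (i : Fin 16) : sigT i * sigT i = 1 :=
  Subtype.ext (Golay.tab_unique ((tab_sigT i).mul (tab_sigT i))
    (by rw [(tab_facts.1 i).2.2]; exact Golay.tab_one))

/-- An element of the image. -/
noncomputable def q9 (x : Fin 16 × Fin 32) : ↥QC := ⟨cov (el x.1 x.2), _, el_mem x.1 x.2, rfl⟩

theorem q9_bijective : Function.Bijective q9 := by
  constructor
  · rintro ⟨i, j⟩ ⟨i', j'⟩ h
    have h1 : mk1 (el i j).1 = mk1 (el i' j').1 :=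
      congrArg Subtype.val (congrArg Subtype.val h)
    obtain ⟨e1, e2⟩ := mk1_mono_inj (kerData_el i j).2 (kerData_el i' j').2 h1
    have hi : i = i' := by
      refine tab_facts.2.1 ?_
      have a := tab_sigT i
      have b := tab_sigT i'
      rw [e1] at a
      refine List.ext_getElem (by rw [tabN_length, tabN_length]) fun k hk1 hk2 => ?_
      rw [← List.getD_eq_getElem _ 0 hk1, ← List.getD_eq_getElem _ 0 hk2,
        ← a k (tabN_length i ▸ hk1), ← b k (tabN_length i ▸ hk1)]
    have hj : j = j' := tab_facts.2.2.1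
      (Golay.toSet_injOn (Golay.inCode_lt (maskN_spec j).1) (Golay.inCode_lt (maskN_spec j').1) e2)
    rw [hi, hj]
  · rintro ⟨x, g, hg, rfl⟩
    obtain ⟨i, j, e | e⟩ := mem_ker_iff hg
    · exact ⟨(i, j), Subtype.ext (show cov (el i j) = cov g by rw [e])⟩
    · exact ⟨(i, j), Subtype.ext (show cov (el i j) = cov g from cov_eq_iff.2 (Or.inr e))⟩

theorem card_QC : Nat.card QC = 2 ^ 9 := by
  rw [← Nat.card_congr (Equiv.ofBijective q9 q9_bijective), Nat.card_prod, Nat.card_fin,
    Nat.card_fin]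
  norm_num

/-- The central element. -/
noncomputable def wQ : ↥QC := q9 (i0, jc)

theorem coe_wQ : ((wQ : ↥C1) : Spor.Co1) = zC := by
  show mk1 (mono (sigT i0) (code_mask jc)) = mk1 epsO
  rw [mk1_eq_iff]
  refine Or.inr ?_
  have hset : symmDiff (Finset.univ : Finset GolayPt) (toSet ocMask) = octO := by decide +kernel
  have hsd : symmDiff (Finset.univ : Finset GolayPt) ((1 : M24).1 • toSet (maskN jc)) = octO := by
    rw [Subgroup.coe_one, one_smul, mask_jc, hset]
  show mono 1 _ = mono 1 univ_mem_code * _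
  rw [mono_mul 1 (sigT i0) univ_mem_code (code_mask jc) (hsd.symm ▸ octO_mem.1)]
  exact mono_congr (by rw [sigT_i0, mul_one]) hsd.symm

theorem wQ_central (x : ↥QC) : Commute wQ x := by
  refine Subtype.ext (Subtype.ext ?_)
  show ((wQ : ↥C1) : Spor.Co1) * _ = _ * ((wQ : ↥C1) : Spor.Co1)
  rw [coe_wQ]
  exact (Subgroup.mem_centralizer_singleton_iff.1 x.1.2).symm

theorem wQ_ne : wQ ≠ 1 := by
  intro h
  have := orderOf_zC
  rw [← coe_wQ, h, OneMemClass.coe_one, OneMemClass.coe_one, orderOf_one] at this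
  norm_num at this

theorem q9_mul_eq {i i' k : Fin 16} {j j' m : Fin 32} (h1 : sigT i * sigT i' = sigT k)
    (h2 : maskN j ^^^ imgMask (tabN i) (maskN j') = maskN m) :
    q9 (i, j) * q9 (i', j') = q9 (k, m) := by
  obtain ⟨h, e, -⟩ := el_mul i i' j j'
  refine Subtype.ext (Subtype.ext ?_)
  show mk1 (el i j * el i' j').1 = mk1 (el k m).1
  rw [e]
  exact congrArg mk1 (mono_congr h1 (by rw [h2]))

theorem q9_eq_one : q9 (i0, j0) = 1 := by
  refine Subtype.ext (Subtype.ext ?_)
  show mk1 (el i0 j0).1 = 1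
  rw [show (el i0 j0).1 = 1 from ?_, map_one]
  show mono (sigT i0) (code_mask j0) = 1
  rw [← mono_one_one]
  exact mono_congr sigT_i0 (by rw [mask_j0]; simp [Finset.ext_iff])

theorem sq_mem (x : ↥QC) : x * x ∈ Subgroup.zpowers wQ := by
  obtain ⟨⟨i, j⟩, rfl⟩ := q9_bijective.2 x
  rcases act_facts.1 i j with h | h
  · rw [q9_mul_eq (k := i0) (m := j0) (by rw [sigT_sq, sigT_i0]) (by rw [h, mask_j0]), q9_eq_one]
    exact one_mem _
  · rw [q9_mul_eq (k := i0) (m := jc) (by rw [sigT_sq, sigT_i0]) (by rw [h, mask_jc])]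
    exact Subgroup.mem_zpowers _

theorem comm_mem (x y : ↥QC) : ⁅x, y⁆ ∈ Subgroup.zpowers wQ := by
  have hc : ∀ a : ↥QC, ∀ b, Commute (a * a) b := by
    intro a b
    obtain ⟨n, hn⟩ := Subgroup.mem_zpowers_iff.1 (sq_mem a)
    rw [← hn]
    exact (wQ_central b).zpow_left n
  have h1 : ⁅x, y⁆ = (x * y) * (x * y) * (y * y)⁻¹ * (x * x)⁻¹ := by
    have e1 : x⁻¹ = x * (x * x)⁻¹ := by group
    have e2 : y⁻¹ = y * (y * y)⁻¹ := by group
    have hx : Commute (x * x)⁻¹ y⁻¹ := (hc x y⁻¹).inv_left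
    calc ⁅x, y⁆ = x * y * (x⁻¹ * y⁻¹) := by rw [commutatorElement_def]; group
      _ = x * y * (x * ((x * x)⁻¹ * y⁻¹)) := by
        conv_lhs => rw [e1]
        group
      _ = x * y * (x * (y⁻¹ * (x * x)⁻¹)) := by rw [hx.eq]
      _ = _ := by
        conv_lhs => rw [e2]
        group
  rw [h1]
  exact mul_mem (mul_mem (sq_mem _) (inv_mem (sq_mem _))) (inv_mem (sq_mem _))

theorem commute_facts {i i' : Fin 16} {j j' : Fin 32} (h : Commute (q9 (i, j)) (q9 (i', j'))) :
    maskN j ^^^ imgMask (tabN i) (maskN j') = maskN j' ^^^ imgMask (tabN i') (maskN j) := by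
  obtain ⟨h1, e1, d1⟩ := el_mul i i' j j'
  obtain ⟨h2, e2, d2⟩ := el_mul i' i j' j
  have h' : mk1 (el i j * el i' j').1 = mk1 (el i' j' * el i j).1 :=
    congrArg Subtype.val (congrArg Subtype.val h.eq)
  rw [e1, e2] at h'
  exact Golay.toSet_injOn (mul_lt _ _ _) (mul_lt _ _ _) (mk1_mono_inj d1 d2 h').2

theorem img_trivial : (∀ m : Fin 32, imgMask (tabN i0) (maskN m) = maskN m) ∧
    (∀ i : Fin 16, imgMask (tabN i) (maskN j0) = 0) := by
  rw [tab_i0, mask_j0]
  exact img_facts

theorem centre_le (x : ↥QC) (hx : ∀ y, Commute x y) : x ∈ Subgroup.zpowers wQ := by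
  obtain ⟨⟨i, j⟩, rfl⟩ := q9_bijective.2 x
  have hi : i = i0 := by
    refine tab_facts.2.1 ?_
    rw [tab_i0]
    refine act_facts.2.1 i fun m => ?_
    have h := commute_facts (hx (q9 (i0, m)))
    rw [img_trivial.1 j] at h
    rw [Nat.xor_comm (maskN m)] at h
    exact Nat.xor_right_injective h
  subst hi
  have hj : maskN j = 0 ∨ maskN j = ocMask := by
    refine act_facts.2.2.1 j fun i' => ?_
    have h := commute_facts (hx (q9 (i', j0)))
    rw [img_trivial.2 i0, mask_j0, Nat.xor_zero, Nat.zero_xor] at h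
    exact h.symm
  rcases hj with hj | hj
  · rw [← mask_j0] at hj
    rw [tab_facts.2.2.1 hj, q9_eq_one]
    exact one_mem _
  · rw [← mask_jc] at hj
    rw [tab_facts.2.2.1 hj]
    exact Subgroup.mem_zpowers _

theorem QC_extraspecial : Cfsg.IsExtraspecial 2 QC := by
  haveI : Finite QC := Nat.finite_of_card_ne_zero (by rw [card_QC]; norm_num)
  refine LargeExtraspecial.isExtraspecial_of (c := wQ) (IsPGroup.of_card card_QC) wQ_ne ?_
    wQ_central centre_le comm_mem sq_mem ?_
  · refine Subtype.ext (Subtype.ext ?_)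
    show ((wQ : ↥C1) : Spor.Co1) * ((wQ : ↥C1) : Spor.Co1) = 1
    rw [coe_wQ, ← pow_two, ← orderOf_zC, pow_orderOf_eq_one]
  · obtain ⟨i, j, h⟩ := act_facts.2.2.2
    refine ⟨q9 (i0, j), q9 (i, j0), fun hc => h ?_⟩
    rw [commutatorElement_eq_one_iff_commute] at hc
    have := commute_facts hc
    rw [img_trivial.2 i0, mask_j0, Nat.xor_zero, Nat.zero_xor] at this
    exact this.symm

end Cfsg.Agent.Leech.Co1Cent
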