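import Cfsg.Agent.Lib.Leech.Co1Cent.Omega8

/-!
# Tables for the centralizer of an octad involution in `Co₁`
-/

set_option autoImplicit false
set_option maxRecDepth 100000

namespace Cfsg.Agent.Leech.Co1Cent

/-- The points of the octad. -/
def octPts : List ℕ := [23, 0, 1, 2, 3, 5, 14, 17]

/-- A basis of the lattice on the octad, hyperbolic modulo 2 (24 coordinates). -/
def hTab : List (List ℤ) := [
    [-2, 2, 2, -2, 0, 2, 0, 0, 0, 0, 0, 0, 0, 0, -2, 0, 0, 6, 0, 0, 0, 0, 0, 2],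
    [-6, 2, 2, -2, 0, -2, 0, 0, 0, 0, 0, 0, 0, 0, 2, 0, 0, 6, 0, 0, 0, 0, 0, 6],
    [-4, 4, 0, 0, 0, 0, 0, 0, 0, 0, 0, 0, 0, 0, 0, 0, 0, -4, 0, 0, 0, 0, 0, 4],
    [0, 4, 4, 0, 0, -4, 0, 0, 0, 0, 0, 0, 0, 0, 0, 0, 0, -8, 0, 0, 0, 0, 0, 4],
    [4, 0, -8, 4, 0, 4, 0, 0, 0, 0, 0, 0, 0, 0, 0, 0, 0, -8, 0, 0, 0, 0, 0, -4],
    [-8, 0, 0, 0, 0, -4, 0, 0, 0, 0, 0, 0, 0, 0, 4, 0, 0, 4, 0, 0, 0, 0, 0, 4],
    [0, 0, -4, -4, 0, 8, 0, 0, 0, 0, 0, 0, 0, 0, -4, 0, 0, 8, 0, 0, 0, 0, 0, -4],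
    [2, 2, -2, -2, 0, 2, 0, 0, 0, 0, 0, 0, 0, 0, -6, 0, 0, -6, 0, 0, 0, 0, 0, -6]]

/-- The inverse of the Gram matrix of `hTab` divided by 16. -/
def ginvTab : List (List ℤ) := [
    [20, -26, -16, 26, 7, 24, 12, -8],
    [-26, 56, 22, -50, -6, -45, -30, 20],
    [-16, 22, 20, -30, -8, -24, -15, 8],
    [26, -50, -30, 56, 10, 46, 32, -19],
    [7, -6, -8, 10, 4, 8, 4, -2],
    [24, -45, -24, 46, 8, 40, 26, -16],
    [12, -30, -15, 32, 4, 26, 20, -12],
    [-8, 20, 8, -19, -2, -16, -12, 8]]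

/-- The tetrad of each point. -/
def tetTab : List ℕ := [0, 0, 0, 2, 1, 2, 3, 3, 5, 4, 4, 5, 5, 1, 2, 4, 1, 2, 5, 3, 4, 3, 1, 0]

/-- Inverse permutation tables and sign sets of the monomial generators. -/
def monTab : List (List ℕ × ℕ) := [
    ([14, 2, 23, 0, 18, 1, 7, 13, 12, 16, 6, 8, 9, 11, 3, 4, 15, 5, 20, 19, 21, 22, 10, 17], 0),
    ([0, 23, 5, 2, 11, 1, 18, 4, 19, 21, 10, 15, 6, 22, 14, 20, 8, 17, 9, 13, 7, 12, 16, 3], 0),
    ([0, 1, 2, 3, 4, 5, 6, 7, 8, 9, 10, 11, 12, 13, 14, 15, 16, 17, 18, 19, 20, 21, 22, 23], 9347075)]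

/-- A permutation of the shape `(a b)(c d)` on the octad. -/
def dtTab : List ℕ := [23, 2, 1, 3, 16, 5, 19, 21, 18, 9, 10, 12, 11, 22, 14, 15, 4, 17, 8, 6, 20, 7, 13, 0]

/-- Images of the basis vectors modulo 2. -/
def colsTab : List (List ℕ) := [[148, 6, 245, 157, 237, 72, 11, 231], [219, 208, 64, 210, 194, 40, 12, 235], [5, 6, 4, 8, 16, 32, 120, 132], [8, 11, 13, 1, 234, 41, 64, 115]]

/-- The codes of the first pair of reflections. -/
def codeA : ℕ := 182

/-- The code of the second reflection. -/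
def codeB : ℕ := 76

/-- Conjugation steps: earlier pair, generator. -/
def conjSteps : List (ℕ × ℕ) := [
    (0, 0), (0, 1), (0, 2), (1, 0), (1, 1), (1, 2), (1, 3), (2, 0), (2, 1), (3, 1),
    (3, 3), (4, 0), (4, 1), (4, 2), (4, 3), (5, 0), (5, 1), (5, 2), (5, 3), (6, 0),
    (7, 2), (8, 0), (8, 1), (8, 2), (9, 0), (9, 1), (9, 2), (9, 3), (10, 1), (10, 3),
    (12, 0), (12, 1), (12, 2), (13, 1), (14, 1), (14, 3), (15, 0), (15, 2), (16, 0), (16, 1),
    (17, 0), (17, 1), (18, 0), (18, 1), (19, 2), (20, 2), (20, 3), (21, 0), (21, 1), (22, 0),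
    (22, 1), (22, 2), (23, 1), (24, 0), (24, 1), (25, 1), (26, 3), (27, 3), (28, 2), (29, 1),
    (29, 2), (29, 3), (30, 0), (30, 1), (31, 0), (31, 1), (32, 0), (32, 1), (32, 2), (32, 3),
    (33, 0), (34, 1), (35, 0), (36, 0), (37, 0), (37, 2), (38, 0), (39, 0), (39, 1), (40, 0),
    (40, 1), (41, 0), (42, 2), (43, 0), (44, 3), (45, 0), (46, 3), (47, 0), (48, 1), (49, 1),
    (50, 1), (50, 3), (51, 0), (51, 1), (52, 3), (53, 0), (53, 1), (54, 0), (54, 1), (54, 3),
    (55, 1), (55, 2), (56, 3), (57, 1), (57, 2), (58, 0), (59, 0), (60, 3), (61, 3), (62, 0),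
    (63, 0), (63, 1), (63, 3), (64, 1), (64, 2), (65, 3), (66, 0), (67, 1), (68, 1), (69, 0),
    (70, 2), (71, 0), (71, 3), (72, 0), (73, 3), (74, 0), (75, 1), (76, 0), (77, 0), (77, 2),
    (78, 0), (78, 2), (79, 3), (80, 0), (81, 0), (82, 0), (82, 2), (83, 0), (84, 0), (84, 1),
    (85, 0), (85, 1), (85, 2), (86, 0), (87, 0), (88, 2), (89, 2), (90, 0), (91, 0), (92, 2),
    (93, 0), (94, 0), (94, 1), (94, 3), (97, 1), (98, 3), (100, 0), (101, 2), (103, 2), (104, 1),
    (105, 0), (105, 1), (106, 1), (106, 3), (107, 2), (108, 0), (108, 1), (109, 2), (110, 0), (110, 1),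
    (111, 0), (111, 1), (111, 3), (112, 1), (113, 0), (114, 2), (115, 0), (115, 3), (116, 2), (117, 0),
    (118, 3), (119, 2), (119, 3), (120, 1), (121, 1), (122, 3), (123, 0), (124, 0), (125, 2), (126, 2),
    (127, 1), (128, 0), (129, 0), (130, 0), (131, 0), (131, 1), (132, 0), (133, 2), (134, 1), (135, 0),
    (136, 1), (137, 0), (138, 0), (139, 3), (140, 3), (141, 1), (142, 1), (142, 2), (143, 1), (144, 3),
    (145, 0), (146, 0), (147, 3), (148, 3), (149, 1), (151, 0), (151, 1), (153, 1), (154, 0), (155, 0),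
    (157, 3), (158, 0), (159, 0), (160, 2), (161, 1), (162, 2), (163, 0), (164, 0), (164, 2), (166, 1),
    (167, 1), (168, 0), (169, 2), (170, 0), (171, 3), (172, 0), (173, 0), (174, 1), (175, 0), (176, 0),
    (178, 0), (180, 3), (181, 2), (183, 2), (185, 2), (186, 2), (188, 3), (189, 1), (190, 1), (191, 2),
    (192, 2), (193, 2), (194, 0), (195, 3), (196, 0), (196, 1), (197, 0), (199, 3), (200, 1), (201, 3),
    (202, 1), (203, 3), (204, 2), (206, 2), (207, 3), (208, 1), (209, 1), (210, 1), (211, 0), (212, 1),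
    (213, 1), (214, 1), (215, 0), (216, 3), (217, 0), (218, 0), (223, 0), (224, 3), (225, 1), (226, 1),
    (227, 2), (228, 3), (229, 0), (230, 1), (233, 0), (234, 2), (236, 3), (238, 1), (239, 3), (245, 1),
    (248, 1), (249, 2), (250, 1), (252, 3), (256, 0), (258, 2), (259, 1), (262, 0), (263, 0), (264, 1),
    (272, 2)]

/-- The spanning tree on the non-singular vectors: vector, parent, pair. -/
def treeSteps : List (ℕ × ℕ × ℕ) := [
    (76, 182, 0), (116, 182, 3), (142, 182, 11), (100, 182, 22), (177, 182, 50), (92, 182, 52), (184, 182, 92), (158, 182, 93),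
    (166, 182, 95), (181, 182, 96), (137, 182, 98), (254, 182, 119), (188, 182, 150), (79, 182, 152), (122, 182, 156), (91, 182, 157),
    (69, 182, 160), (238, 182, 171), (119, 182, 177), (198, 182, 182), (247, 182, 183), (47, 182, 195), (253, 182, 199), (214, 182, 216),
    (70, 182, 219), (99, 182, 220), (168, 182, 221), (141, 182, 222), (121, 182, 224), (228, 182, 231), (29, 182, 235), (162, 182, 236),
    (53, 182, 237), (233, 182, 239), (197, 182, 240), (172, 182, 241), (203, 182, 244), (151, 182, 249), (38, 182, 254), (209, 182, 255),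
    (23, 182, 257), (244, 182, 258), (86, 182, 266), (34, 182, 267), (54, 182, 268), (50, 182, 270), (106, 182, 271), (223, 182, 274),
    (154, 182, 275), (43, 182, 276), (109, 182, 277), (138, 182, 278), (49, 182, 280), (216, 182, 283), (25, 182, 285), (81, 182, 287),
    (19, 182, 289), (187, 182, 290), (191, 182, 291), (147, 182, 292), (178, 182, 295), (200, 182, 296), (227, 182, 299), (241, 76, 65),
    (242, 76, 79), (248, 76, 116), (68, 76, 118), (201, 76, 122), (251, 76, 133), (202, 76, 140), (143, 76, 165), (35, 76, 180),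
    (77, 76, 181), (124, 76, 184), (58, 76, 186), (27, 76, 187), (108, 76, 188), (232, 76, 192), (149, 76, 201), (57, 76, 205),
    (42, 76, 242), (101, 76, 247), (17, 76, 252), (156, 76, 260), (173, 76, 261), (167, 76, 269), (71, 76, 273), (78, 76, 281),
    (140, 76, 284), (94, 76, 286), (84, 76, 288), (226, 76, 294), (218, 76, 297), (211, 76, 300), (127, 76, 301), (139, 116, 107),
    (196, 116, 179), (21, 116, 193), (199, 116, 198), (114, 116, 227), (89, 116, 232), (98, 116, 234), (113, 116, 243), (62, 116, 246),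
    (212, 116, 251), (61, 116, 253), (46, 116, 265), (163, 116, 279), (239, 116, 282), (152, 116, 293), (136, 116, 298), (107, 100, 23),
    (145, 100, 51), (169, 100, 99), (83, 100, 102), (39, 100, 131), (221, 100, 153), (229, 100, 176), (31, 100, 197)]

/-- A vector fixed by the centre. -/
def centreVec : ℕ := 56

/-- Further vectors fixed by the centre: parent, generator. -/
def centreSteps : List (ℕ × ℕ) := [
    (0, 3), (1, 0), (1, 1), (1, 2), (2, 0), (2, 1), (2, 2), (2, 3), (3, 1), (4, 1),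
    (5, 0), (5, 1), (5, 3)]

end Cfsg.Agent.Leech.Co1Cent
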