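import Cfsg.Agent.Lib.Leech.Co1Cent.Data
import Cfsg.Agent.Lib.Leech.Facts
import Cfsg.Agent.Lib.Leech.Orbits

/-!
The sublattice of the Leech lattice supported on an octad, and its reduction modulo 2.
-/

set_option autoImplicit false
set_option maxRecDepth 100000

namespace Cfsg.Agent.Leech.Co1Cent

open Cfsg Matrix
open Cfsg.Agent.Golay (idx pt toSet octadO idx_lt pt_idx octad_mem_iff octad_unique mem_toSet)

/-- A coordinate vector from a list. -/
def vecL (l : List ℤ) (p : GolayPt) : ℤ := l.getD (idx p) 0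

/-- The number of an index. -/
def num (j : I8) : ℕ := ((finSumFinEquiv : Fin 4 ⊕ Fin 4 ≃ Fin (4 + 4)) j : ℕ)

/-- The basis vectors. -/
def hv (j : I8) : GolayPt → ℤ := vecL (hTab.getD (num j) [])

/-- The inverse Gram matrix. -/
def gi (j k : I8) : ℤ := (ginvTab.getD (num j) []).getD (num k) 0

/-- The octad. -/
def octO : Finset GolayPt := toSet octadO

theorem octO_mem : octO ∈ octads :=
  octad_mem_iff.2 ⟨octadO, by decide +kernel, by decide +kernel, rfl⟩

theorem octO_card : octO.card = 8 := Golay.card_of_mem_octads octO_mem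

theorem none_mem_octO : (none : GolayPt) ∈ octO := by decide +kernel

/-- The sublattice supported on the octad. -/
def L8 : AddSubgroup (GolayPt → ℤ) where
  carrier := {x | x ∈ leechLattice ∧ ∀ p, p ∉ octO → x p = 0}
  zero_mem' := ⟨zero_mem _, fun _ _ => rfl⟩
  add_mem' := fun ha hb => ⟨add_mem ha.1 hb.1, fun p hp => by simp [ha.2 p hp, hb.2 p hp]⟩
  neg_mem' := fun ha => ⟨neg_mem ha.1, fun p hp => by simp [ha.2 p hp]⟩

theorem mem_L8 {x : GolayPt → ℤ} :
    x ∈ L8 ↔ x ∈ leechLattice ∧ ∀ p, p ∉ octO → x p = 0 := Iff.rfl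

/-- The shape of a vector on the octad. -/
theorem octad_shape {x : GolayPt → ℤ} (hx : x ∈ L8) :
    ∃ (a : ℤ) (u : GolayPt → ℤ), (∀ p ∈ octO, x p = 2 * (a + 2 * u p)) ∧
      (2 : ℤ) ∣ ∑ p ∈ octO, u p := by
  classical
  obtain ⟨m, hm, c, hc, hl⟩ := exists_normal_form hx.1
  obtain ⟨y, hy, hpar⟩ := hl.param hc
  obtain ⟨p0, hp0⟩ : ∃ p, p ∉ octO := by
    by_contra h
    push Not at h
    have := Finset.card_le_card (fun p _ => h p : (Finset.univ : Finset GolayPt) ⊆ octO)
    rw [Finset.card_univ, card_pt, octO_card] at this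
    omega
  have hm0 : m = 0 := by
    have h := hy p0
    rw [hx.2 p0 hp0] at h
    rcases hm with rfl | rfl
    · rfl
    · omega
  subst hm0
  have hout : ∀ p, p ∉ octO → bit c p = 0 ∧ y p = 0 := by
    intro p hp
    have h := hy p
    rw [hx.2 p hp] at h
    have : bit c p = 0 ∨ bit c p = 1 := by unfold bit; split_ifs <;> simp
    omega
  have hsub : c ⊆ octO := by
    intro p hp
    by_contra h
    have := (hout p h).1
    simp [bit, hp] at this
  obtain ⟨a, ha⟩ : ∃ a : ℤ, ∀ p ∈ octO, bit c p = a := by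
    rcases Golay.supports_card_cases hc with rfl | h | h | h | h
    · exact ⟨0, fun p _ => by simp [bit]⟩
    · refine ⟨1, fun p hp => ?_⟩
      rw [Finset.eq_of_subset_of_card_le hsub (by rw [octO_card, h])]
      simp [bit, hp]
    all_goals
      have := Finset.card_le_card hsub
      rw [octO_card] at this
      omega
  refine ⟨a, y, fun p hp => by rw [hy p, ha p hp]; ring, ?_⟩
  have : ∑ p ∈ octO, y p = ∑ p, y p :=
    Finset.sum_subset (Finset.subset_univ _) fun p _ hp => (hout p hp).2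
  rw [this]
  simpa using hpar

theorem sixteen_dvd_dot {x y : GolayPt → ℤ} (hx : x ∈ L8) (hy : y ∈ L8) :
    (16 : ℤ) ∣ dotInt x y := by
  obtain ⟨a, u, hu, ⟨k, hk⟩⟩ := octad_shape hx
  obtain ⟨b, v, hv, ⟨l, hl⟩⟩ := octad_shape hy
  have e : dotInt x y = ∑ p ∈ octO, x p * y p :=
    (Finset.sum_subset (Finset.subset_univ _) fun p _ hp => by rw [hx.2 p hp, zero_mul]).symm
  have e2 : ∑ p ∈ octO, x p * y p =
      4 * (octO.card * (a * b) + 2 * a * (∑ p ∈ octO, v p) + 2 * b * (∑ p ∈ octO, u p) +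
        4 * ∑ p ∈ octO, u p * v p) := by
    simp only [Finset.mul_sum, mul_add, ← Finset.sum_add_distrib]
    rw [← nsmul_eq_mul, ← Finset.sum_const, Finset.mul_sum, ← Finset.sum_add_distrib,
      ← Finset.sum_add_distrib, ← Finset.sum_add_distrib]
    refine Finset.sum_congr rfl fun p hp => ?_
    rw [hu p hp, hv p hp]
    ring
  rw [e, e2, octO_card, hk, hl]
  exact ⟨2 * (a * b) + a * l + b * k + ∑ p ∈ octO, u p * v p, by push_cast; ring⟩

theorem hv_mem (j : I8) : hv j ∈ L8 := by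
  have h : ∀ j : I8, (∀ p, p ∉ octO → hv j p = 0) ∧
      ∃ c ∈ ([0, octadO] : List ℕ), (∀ p, (4 : ℤ) ∣ hv j p - 2 * bit (toSet c) p) ∧
        (8 : ℤ) ∣ ∑ p, hv j p := by
    decide +kernel
  obtain ⟨h1, c, hc, h2, h3⟩ := h j
  refine ⟨mem_lattice_iff.2 ⟨0, toSet c, ?_, fun p => ?_, by simpa using h3⟩, h1⟩
  · simp only [List.mem_cons, List.not_mem_nil, or_false] at hc
    rcases hc with rfl | rfl
    · have : toSet 0 = (∅ : Finset GolayPt) := by decide +kernel
      rw [this]; exact empty_mem_code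
    · exact octO_mem.1
  · simpa using h2 p

theorem ginv_identity : ∀ p : GolayPt, ∀ q : GolayPt, q ∈ octO →
    ∑ j : I8, (∑ k : I8, gi j k * hv k q) * hv j p = if p = q then 16 else 0 := by
  decide +kernel

/-- The integral coordinates in the basis. -/
def coord (x : GolayPt → ℤ) (j : I8) : ℤ := ∑ k, gi j k * (dotInt x (hv k) / 16)

theorem expand {x : GolayPt → ℤ} (hx : x ∈ L8) : x = ∑ j, coord x j • hv j := by
  have h16 : ∀ k, 16 * (dotInt x (hv k) / 16) = dotInt x (hv k) :=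
    fun k => Int.mul_ediv_cancel' (sixteen_dvd_dot hx (hv_mem k))
  funext p
  refine mul_left_cancel₀ (show (16 : ℤ) ≠ 0 by norm_num) ?_
  rw [Finset.sum_apply, Finset.mul_sum]
  calc 16 * x p = ∑ q, x q * (if p = q then 16 else 0) := by simp [mul_comm]
    _ = ∑ q, ∑ j, ∑ k, gi j k * (x q * hv k q) * hv j p := by
        refine Finset.sum_congr rfl fun q _ => ?_
        by_cases hq : q ∈ octO
        · rw [← ginv_identity p q hq, Finset.mul_sum]
          refine Finset.sum_congr rfl fun j _ => ?_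
          rw [Finset.sum_mul, Finset.mul_sum]
          exact Finset.sum_congr rfl fun k _ => by ring
        · rw [hx.2 q hq]; simp
    _ = ∑ j, 16 * ((coord x j • hv j) p) := by
        rw [Finset.sum_comm]
        refine Finset.sum_congr rfl fun j _ => ?_
        rw [Finset.sum_comm, Pi.smul_apply, smul_eq_mul, coord, Finset.sum_mul, Finset.mul_sum]
        refine Finset.sum_congr rfl fun k _ => ?_
        rw [← Finset.sum_mul, ← Finset.mul_sum, show ∑ q, x q * hv k q = dotInt x (hv k) from rfl,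
          ← h16 k, h16 k]
        linear_combination (-(gi j k * hv j p)) * h16 k

/-- The coordinates modulo 2, read off by inner products. -/
def psi (x : GolayPt → ℤ) (j : I8) : ZMod 2 := ((dotInt x (hv j.swap) / 16 : ℤ) : ZMod 2)

theorem psi_hv : ∀ j i : I8, psi (hv j) i = if j = i then 1 else 0 := by decide +kernel

theorem psi_add {x y : GolayPt → ℤ} (hx : x ∈ L8) (hy : y ∈ L8) : psi (x + y) = psi x + psi y := by
  funext j
  simp only [psi, Pi.add_apply, dotInt_add_left']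
  rw [Int.add_ediv_of_dvd_left (sixteen_dvd_dot hx (hv_mem _)), Int.cast_add]

/-- Reduction modulo 2. -/
def psiHom : ↥L8 →+ (I8 → ZMod 2) where
  toFun x := psi x
  map_zero' := by funext j; simp [psi, dotInt]
  map_add' x y := psi_add x.2 y.2

theorem coe_sum_zsmul (c : I8 → ℤ) :
    ((∑ j, c j • (⟨hv j, hv_mem j⟩ : ↥L8) : ↥L8) : GolayPt → ℤ) = ∑ j, c j • hv j := by
  simp [AddSubgroup.val_finsetSum]

theorem expand' (x : ↥L8) : x = ∑ j, coord x j • (⟨hv j, hv_mem j⟩ : ↥L8) :=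
  Subtype.ext (by rw [coe_sum_zsmul]; exact expand x.2)

theorem psi_coord {x : GolayPt → ℤ} (hx : x ∈ L8) (j : I8) : psi x j = (coord x j : ZMod 2) := by
  have := congrArg psiHom (expand' ⟨x, hx⟩)
  rw [map_sum] at this
  rw [show psi x j = psiHom ⟨x, hx⟩ j from rfl, this, Finset.sum_apply]
  simp only [map_zsmul, Pi.smul_apply]
  simp [psiHom, psi_hv]

theorem exists_half {x : GolayPt → ℤ} (hx : x ∈ L8) (h : psi x = 0) : ∃ y ∈ L8, x = 2 • y := by
  refine ⟨∑ j, (coord x j / 2) • hv j, sum_mem fun j _ => zsmul_mem (hv_mem j) _, ?_⟩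
  conv_lhs => rw [expand hx]
  rw [Finset.smul_sum]
  refine Finset.sum_congr rfl fun j _ => ?_
  have h2 : (2 : ℤ) ∣ coord x j := by
    have := psi_coord hx j
    rw [h, Pi.zero_apply] at this
    exact (ZMod.intCast_zmod_eq_zero_iff_dvd _ 2).1 this.symm
  rw [← natCast_zsmul, smul_smul, Nat.cast_ofNat, Int.mul_ediv_cancel' h2]

theorem polar_Q8 (a b : I8 → ZMod 2) :
    QuadraticMap.polar ⇑Q8 a b = ∑ j : I8, b j * a j.swap := by
  rw [QuadraticMap.polar]
  simp only [Reflections.coe_qPlus, Cfsg.quadFormPlus, Fintype.sum_sum_type, Fin.sum_univ_four,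
    Pi.add_apply, Sum.swap_inl, Sum.swap_inr]
  ring

theorem polar_psi {x y : GolayPt → ℤ} (hx : x ∈ L8) (hy : y ∈ L8) :
    QuadraticMap.polar ⇑Q8 (psi x) (psi y) = ((dotInt x y / 16 : ℤ) : ZMod 2) := by
  let f : ↥L8 →+ ZMod 2 :=
    { toFun := fun y => ((dotInt x (y : GolayPt → ℤ) / 16 : ℤ) : ZMod 2)
      map_zero' := by simp [dotInt]
      map_add' := fun y z => by
        rw [AddSubgroup.coe_add, dotInt_comm x, dotInt_add_left',
          Int.add_ediv_of_dvd_left (sixteen_dvd_dot y.2 hx), Int.cast_add, dotInt_comm x,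
          dotInt_comm x] }
  show _ = f ⟨y, hy⟩
  rw [expand' ⟨y, hy⟩, map_sum, polar_Q8]
  refine Finset.sum_congr rfl fun j _ => ?_
  rw [map_zsmul, zsmul_eq_mul, psi_coord hy]
  refine congrArg _ ?_
  show psi x j.swap = f ⟨hv j, _⟩
  simp [psi, f]

theorem form_psi {x : GolayPt → ℤ} (hx : x ∈ L8) :
    (32 : ℤ) ∣ sqNorm x ∧ Q8 (psi x) = ((sqNorm x / 32 : ℤ) : ZMod 2) := by
  let S : AddSubgroup ↥L8 :=
    { carrier := {y | (32 : ℤ) ∣ sqNorm (y : GolayPt → ℤ) ∧
        Q8 (psi y) = ((sqNorm (y : GolayPt → ℤ) / 32 : ℤ) : ZMod 2)}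
      zero_mem' := by
        have h0 : psi (0 : GolayPt → ℤ) = 0 := by funext j; simp [psi, dotInt]
        refine ⟨by simp [sqNorm], ?_⟩
        rw [AddSubgroup.coe_zero, h0, QuadraticMap.map_zero]
        simp [sqNorm]
      add_mem' := by
        rintro y z ⟨h1, h2⟩ ⟨h3, h4⟩
        obtain ⟨k, hk⟩ := sixteen_dvd_dot y.2 z.2
        obtain ⟨m, hm⟩ := h1
        obtain ⟨n, hn⟩ := h3
        have hsum : sqNorm ((y + z : ↥L8) : GolayPt → ℤ) = 32 * (m + k + n) := by
          rw [AddSubgroup.coe_add, sqNorm_add, hm, hk, hn]; ring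
        refine ⟨⟨_, hsum⟩, ?_⟩
        rw [hsum, Int.mul_ediv_cancel_left _ (by norm_num), AddSubgroup.coe_add,
          psi_add y.2 z.2, QuadraticMap.map_add Q8, h2, h4, polar_psi y.2 z.2, hk, hm, hn,
          Int.mul_ediv_cancel_left _ (by norm_num), Int.mul_ediv_cancel_left _ (by norm_num),
          Int.mul_ediv_cancel_left _ (by norm_num)]
        push_cast
        ring
      neg_mem' := by
        rintro y ⟨h1, h2⟩
        have hn : psi ((-y : ↥L8) : GolayPt → ℤ) = psi y := by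
          have := map_neg psiHom y
          refine this.trans (funext fun j => ?_)
          exact CharTwo.neg_eq _
        refine ⟨by rwa [AddSubgroup.coe_neg, sqNorm_neg], ?_⟩
        rw [hn, AddSubgroup.coe_neg, sqNorm_neg]
        exact h2 }
  have hh : ∀ j : I8, (32 : ℤ) ∣ sqNorm (hv j) ∧ (sqNorm (hv j) / 32) % 2 = 0 ∧
      Cfsg.quadFormPlus 4 (ZMod 2) (psi (hv j)) = 0 := by decide +kernel
  have hmem : (⟨x, hx⟩ : ↥L8) ∈ S := by
    rw [expand' ⟨x, hx⟩]
    refine sum_mem fun j _ => zsmul_mem ?_ _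
    obtain ⟨h1, h2, h3⟩ := hh j
    refine ⟨h1, ?_⟩
    rw [show Q8 (psi (hv j)) = Cfsg.quadFormPlus 4 (ZMod 2) (psi (hv j)) from
      congrFun (Reflections.coe_qPlus 4 (ZMod 2)) _, h3]
    exact ((ZMod.intCast_zmod_eq_zero_iff_dvd _ 2).2 (Int.dvd_of_emod_eq_zero h2)).symm
  exact hmem

/-- An isometry of the octad lattice inducing the identity modulo 2 is `±1`. -/
theorem eq_id_or_neg (φ : ↥L8 →+ ↥L8)
    (hn : ∀ x : ↥L8, sqNorm (φ x : GolayPt → ℤ) = sqNorm (x : GolayPt → ℤ))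
    (hp : ∀ x : ↥L8, psi (φ x) = psi (x : GolayPt → ℤ)) :
    (∀ x, φ x = x) ∨ (∀ x, φ x = -x) := by
  classical
  have hdot : ∀ x y : ↥L8, dotInt (φ x : GolayPt → ℤ) (φ y) = dotInt (x : GolayPt → ℤ) y := by
    intro x y
    have h := hn (x + y)
    rw [map_add, AddSubgroup.coe_add, AddSubgroup.coe_add, sqNorm_add, sqNorm_add, hn, hn] at h
    omega
  have hroot : ∀ r : ↥L8, sqNorm (r : GolayPt → ℤ) = 32 → φ r = r ∨ φ r = -r := by
    intro r hr
    have hz : psi ((φ r - r : ↥L8) : GolayPt → ℤ) = 0 := by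
      have := map_sub psiHom (φ r) r
      refine this.trans ?_
      show psi _ - psi _ = 0
      rw [hp, sub_self]
    obtain ⟨y, hy, he⟩ := exists_half (φ r - r).2 hz
    rw [AddSubgroup.coe_sub] at he
    have h1 : sqNorm ((φ r : GolayPt → ℤ) - (r : GolayPt → ℤ)) = 4 * sqNorm y := by rw [he, sqNorm_two_nsmul]
    rw [sqNorm_sub, hn, hr] at h1
    have he2 : (φ r : GolayPt → ℤ) + (r : GolayPt → ℤ) = 2 • (y + (r : GolayPt → ℤ)) := by
      rw [smul_add, ← he, two_nsmul]; abel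
    have h2 : sqNorm ((φ r : GolayPt → ℤ) + (r : GolayPt → ℤ)) = 4 * sqNorm (y + (r : GolayPt → ℤ)) := by
      rw [he2, sqNorm_two_nsmul]
    rw [sqNorm_add, hn, hr] at h2
    by_cases hy0 : y = 0
    · left
      refine Subtype.ext (sub_eq_zero.1 ?_)
      rw [he, hy0, smul_zero]
    · right
      have hy32 := noRoots y hy.1 hy0
      have : sqNorm (y + (r : GolayPt → ℤ)) < 32 := by omega
      have hz0 : y + (r : GolayPt → ℤ) = 0 := by
        by_contra hne
        have := noRoots _ (add_mem hy.1 r.2.1) hne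
        omega
      refine Subtype.ext (eq_neg_of_add_eq_zero_left ?_)
      rw [he2, hz0, smul_zero]
  have hsame : ∀ r s : ↥L8, sqNorm (r : GolayPt → ℤ) = 32 → sqNorm (s : GolayPt → ℤ) = 32 →
      dotInt (r : GolayPt → ℤ) s ≠ 0 → φ r = r → φ s = s := by
    intro r s hr hs hrs h
    rcases hroot s hs with h' | h'
    · exact h'
    · exfalso
      have := hdot r s
      rw [h, h', AddSubgroup.coe_neg, dotInt_comm, dotInt_neg_left', dotInt_comm] at this
      omega
  -- the roots `4 e_∞ ± 4 e_i`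
  have hmem : ∀ i ∈ octO, i ≠ none → ∀ b : ℤ, (b = 4 ∨ b = -4) → four none i 4 b ∈ L8 := by
    intro i hi hne b hb
    refine ⟨(four_spec (Ne.symm hne) (Or.inl rfl) hb).1, fun p hp => ?_⟩
    have h1 : p ≠ none := fun e => hp (e ▸ none_mem_octO)
    have h2 : p ≠ i := fun e => hp (e ▸ hi)
    simp [four, h1, h2]
  have h5 : (some 5 : GolayPt) ∈ octO ∧ (some 0 : GolayPt) ∈ octO := by decide +kernel
  have hf8 : ∀ p ∈ octO, (frame p : GolayPt → ℤ) ∈ L8 := fun p hp =>
    ⟨(frame p).2, fun q hq => Pi.single_eq_of_ne (show q ≠ p from fun e => hq (by rw [e]; exact hp)) _⟩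
  have key : ∀ e : ℤ, (e = 1 ∨ e = -1) →
      (∀ i, ∀ hi : i ∈ octO, ∀ hne : i ≠ none, ∀ b : ℤ, ∀ hb : b = 4 ∨ b = -4,
        φ ⟨_, hmem i hi hne b hb⟩ = e • (⟨_, hmem i hi hne b hb⟩ : ↥L8)) →
      ∀ x, φ x = e • x := by
    intro e he h x
    have hfr : ∀ p, ∀ hp : p ∈ octO, φ ⟨_, hf8 p hp⟩ = e • (⟨_, hf8 p hp⟩ : ↥L8) := by
      intro p hp
      by_cases hpn : p = none
      · subst hpn
        have e1 : (⟨_, hf8 none hp⟩ : ↥L8) = ⟨_, hmem _ h5.2 (by simp) 4 (Or.inl rfl)⟩ +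
            ⟨_, hmem _ h5.2 (by simp) (-4) (Or.inr rfl)⟩ := by
          refine Subtype.ext (funext fun q => ?_)
          simp [frame, four, Pi.single_apply]
          split_ifs <;> simp_all
        rw [e1, map_add, h _ h5.2 (by simp) 4 (Or.inl rfl), h _ h5.2 (by simp) (-4) (Or.inr rfl),
          smul_add]
      · have e1 : (⟨_, hf8 p hp⟩ : ↥L8) = ⟨_, hmem p hp hpn 4 (Or.inl rfl)⟩ -
            ⟨_, hmem p hp hpn (-4) (Or.inr rfl)⟩ := by
          refine Subtype.ext (funext fun q => ?_)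
          simp [frame, four, Pi.single_apply]
          split_ifs <;> simp_all
        rw [e1, map_sub, h _ hp hpn 4 (Or.inl rfl), h _ hp hpn (-4) (Or.inr rfl), smul_sub]
    have e8 : (8 : ℤ) • x =
        ∑ p : {p // p ∈ octO}, (x : GolayPt → ℤ) p.1 • (⟨_, hf8 p.1 p.2⟩ : ↥L8) := by
      refine Subtype.ext (funext fun q => ?_)
      rw [AddSubgroup.val_finsetSum, Finset.sum_apply]
      simp only [AddSubgroup.coe_zsmul, Pi.smul_apply, smul_eq_mul, frame]
      rw [show (∑ p : {p // p ∈ octO}, (x : GolayPt → ℤ) p.1 * (Pi.single p.1 (8 : ℤ) : _ → ℤ) q) =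
        ∑ p ∈ octO, (x : GolayPt → ℤ) p * (Pi.single p (8 : ℤ) : _ → ℤ) q from
        (Finset.sum_subtype octO (fun _ => Iff.rfl)
          (fun p => (x : GolayPt → ℤ) p * (Pi.single p (8 : ℤ) : _ → ℤ) q)).symm]
      by_cases hq : q ∈ octO
      · rw [Finset.sum_eq_single q (fun p _ hpq => by simp [hpq.symm]) (fun h => absurd hq h)]
        simp [mul_comm]
      · rw [x.2.2 q hq, mul_zero]
        refine (Finset.sum_eq_zero fun p hp => ?_).symm
        have : q ≠ p := fun e => hq (e ▸ hp)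
        simp [this]
    have h8 : (8 : ℤ) • φ x = (8 : ℤ) • (e • x) := by
      rw [← map_zsmul, smul_comm, e8, map_sum, Finset.smul_sum]
      refine Finset.sum_congr rfl fun p _ => ?_
      rw [map_zsmul, hfr _ p.2, smul_comm]
    refine Subtype.ext (funext fun q => ?_)
    have h9 := congrFun (congrArg Subtype.val h8) q
    simp only [AddSubgroup.coe_zsmul, Pi.smul_apply, smul_eq_mul] at h9
    simpa using mul_left_cancel₀ (show (8 : ℤ) ≠ 0 by norm_num) h9
  have hsq : ∀ i, i ≠ none → ∀ b : ℤ, (b = 4 ∨ b = -4) → sqNorm (four none i 4 b) = 32 :=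
    fun i hi b hb => (four_spec (Ne.symm hi) (Or.inl rfl) hb).2
  have hd : ∀ i j, i ≠ none → j ≠ none → i ≠ j → ∀ b c : ℤ,
      dotInt (four none i 4 b) (four none j 4 c) = 16 := by
    intro i j hi hj hij b c
    rw [dotInt_four]
    simp [four, Ne.symm hi, Ne.symm hj, hi, hij]
  set r0 : ↥L8 := ⟨_, hmem _ h5.2 (by simp) 4 (Or.inl rfl)⟩ with hr0
  set r5 : ↥L8 := ⟨_, hmem _ h5.1 (by simp) 4 (Or.inl rfl)⟩ with hr5
  have hall : ∀ ψ : ↥L8 →+ ↥L8, (∀ r s : ↥L8, sqNorm (r : GolayPt → ℤ) = 32 →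
      sqNorm (s : GolayPt → ℤ) = 32 → dotInt (r : GolayPt → ℤ) s ≠ 0 → ψ r = r → ψ s = s) →
      ψ r0 = r0 → ∀ i, ∀ hi : i ∈ octO, ∀ hne : i ≠ none, ∀ b : ℤ, ∀ hb : b = 4 ∨ b = -4,
        ψ ⟨_, hmem i hi hne b hb⟩ = ⟨_, hmem i hi hne b hb⟩ := by
    intro ψ hs h0 i hi hne b hb
    by_cases h : i = some 0
    · subst h
      have h50 : (some 0 : GolayPt) ≠ some 5 := by decide
      have hh := hs r0 r5 (hsq _ (by simp) _ (Or.inl rfl)) (hsq _ (by simp) _ (Or.inl rfl))
        (by rw [hd _ _ (by simp) (by simp) h50]; norm_num) h0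
      exact hs r5 ⟨_, hmem _ hi hne b hb⟩ (hsq _ (by simp) _ (Or.inl rfl)) (hsq _ hne _ hb)
        (by rw [hd _ _ (by simp) hne h50.symm]; norm_num) hh
    · exact hs r0 ⟨_, hmem _ hi hne b hb⟩ (hsq _ (by simp) _ (Or.inl rfl)) (hsq _ hne _ hb)
        (by rw [hd _ _ (by simp) hne (Ne.symm h)]; norm_num) h0
  rcases hroot r0 (hsq _ (by simp) _ (Or.inl rfl)) with h0 | h0
  · left
    intro x
    have := key 1 (Or.inl rfl) (fun i hi hne b hb => by
      rw [one_smul]; exact hall φ hsame h0 i hi hne b hb) x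
    rwa [one_smul] at this
  · right
    intro x
    have hneg := hall (-φ) (fun r s hr hs hrs h => ?_) (by simp [h0])
    · have := key (-1) (Or.inr rfl) (fun i hi hne b hb => by
        rw [neg_one_zsmul, ← neg_eq_iff_eq_neg]; exact hneg i hi hne b hb) x
      rwa [neg_one_zsmul] at this
    · rw [AddMonoidHom.neg_apply, neg_eq_iff_eq_neg] at h ⊢
      rcases hroot s hs with h' | h'
      · exfalso
        have := hdot r s
        rw [h, h', AddSubgroup.coe_neg, dotInt_neg_left'] at this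
        omega
      · exact h'

end Cfsg.Agent.Leech.Co1Cent
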