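import Cfsg.Agent.Lib.Leech.Co1Cent.Cover

/-!
Tables of the image of the kernel: sixteen permutations and thirty-two code words.
-/

set_option autoImplicit false
set_option maxRecDepth 100000

namespace Cfsg.Agent.Leech.Co1Cent

open Cfsg
open Cfsg.Agent.Golay (idx pt toSet octadO isPermTab checkAut inCode comp idTab maps)

/-- The code masks disjoint from the octad. -/
def maskF : List ℕ := ((List.range 4096).map Golay.comb).filter fun n => n &&& octadO == 0

/-- The mask of an image. -/
def imgMask (l : List ℕ) (m : ℕ) : ℕ :=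
  (List.range 24).foldl (fun acc i => if m.testBit i then acc ||| 2 ^ l.getD i 0 else acc) 0

/-- The mask of the complement of the octad. -/
def ocMask : ℕ := 16777215 ^^^ octadO

/-- The `i`-th table. -/
def tabN (i : Fin 16) : List ℕ := tabs6.getD i.val []

/-- The `j`-th mask. -/
def maskN (j : Fin 32) : ℕ := maskF.getD j.val 0

theorem maskF_length : maskF.length = 32 := by decide +kernel

theorem tabN_mem (i : Fin 16) : tabN i ∈ tabs6 := by
  have h : i.val < tabs6.length := by rw [tabs6_facts.1]; exact i.isLt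
  rw [tabN, List.getD_eq_getElem _ _ h]
  exact List.getElem_mem h

theorem tabN_surj {l : List ℕ} (h : l ∈ tabs6) : ∃ i, tabN i = l := by
  obtain ⟨k, hk, rfl⟩ := List.getElem_of_mem h
  exact ⟨⟨k, by rw [← tabs6_facts.1]; exact hk⟩, List.getD_eq_getElem _ _ hk⟩

theorem maskN_mem (j : Fin 32) : maskN j ∈ maskF := by
  have h : j.val < maskF.length := by rw [maskF_length]; exact j.isLt
  rw [maskN, List.getD_eq_getElem _ _ h]
  exact List.getElem_mem h

theorem maskN_surj {n : ℕ} (h : n ∈ maskF) : ∃ j, maskN j = n := by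
  obtain ⟨k, hk, rfl⟩ := List.getElem_of_mem h
  exact ⟨⟨k, by rw [← maskF_length]; exact hk⟩, List.getD_eq_getElem _ _ hk⟩

theorem maskN_spec (j : Fin 32) : inCode (maskN j) = true ∧ maskN j &&& octadO = 0 := by
  obtain ⟨hm, hz⟩ := List.mem_filter.1 (maskN_mem j)
  obtain ⟨k, hk, e⟩ := List.mem_map.1 hm
  refine ⟨?_, by simpa using hz⟩
  rw [← e, inCode, Golay.comb_mod (List.mem_range.1 hk)]
  simp

theorem tab_facts : (∀ i : Fin 16, isPermTab (tabN i) = true ∧ checkAut (tabN i) = true ∧
      comp (tabN i) (tabN i) = idTab) ∧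
    Function.Injective tabN ∧ Function.Injective maskN ∧
    (∃ i0, tabN i0 = idTab) ∧ (∃ j0, maskN j0 = 0) ∧ (∃ jc, maskN jc = ocMask) ∧
    (∀ i j, maps (tabN i) (maskN j) (imgMask (tabN i) (maskN j)) = true) := by
  unfold Function.Injective
  decide +kernel

theorem act_facts :
    (∀ i j, (maskN j ^^^ imgMask (tabN i) (maskN j) = 0 ∨
      maskN j ^^^ imgMask (tabN i) (maskN j) = ocMask)) ∧
    (∀ i, (∀ j, imgMask (tabN i) (maskN j) = maskN j) → tabN i = idTab) ∧
    (∀ j, (∀ i, imgMask (tabN i) (maskN j) = maskN j) → maskN j = 0 ∨ maskN j = ocMask) ∧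
    (∃ i j, imgMask (tabN i) (maskN j) ≠ maskN j) := by
  decide +kernel

theorem tabN_length : ∀ k : Fin 16, (tabN k).length = 24 := by decide +kernel

theorem mul_lt : ∀ (a : Fin 16) (b b' : Fin 32),
    maskN b ^^^ imgMask (tabN a) (maskN b') < 2 ^ 24 := by
  decide +kernel

theorem img_facts : (∀ m : Fin 32, imgMask idTab (maskN m) = maskN m) ∧
    (∀ i : Fin 16, imgMask (tabN i) 0 = 0) := by
  decide +kernel

end Cfsg.Agent.Leech.Co1Cent
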