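import Cfsg.Agent.Lib.Leech.Co1Cent.Rep

/-!
The kernel and the exact image of the representation on the octad lattice modulo 2.
-/

set_option autoImplicit false
set_option maxRecDepth 100000

namespace Cfsg.Agent.Leech.Co1Cent

open Cfsg Matrix Cfsg.Agent.Reflections
open Cfsg.Agent.Golay (idx pt toSet octadO idx_lt pt_idx idx_pt Tab fixUpTo mem_fixUpTo bp comp idTab
  evalSLP gens24 prog24 reps24 baseN)

/-- The tables of the elements fixing the octad pointwise. -/
def tabs6 : List (List ℕ) := (reps24.getD 6 []).map fun xk => (evalSLP gens24 prog24).getD xk.2 idTab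

theorem tabs6_facts : tabs6.length = 16 ∧ (∀ l ∈ tabs6, ∀ p : GolayPt, p ∈ octO → l.getD (idx p) 0 = idx p) ∧
    (∀ j : Fin 6, bp j.val ∈ octO) ∧ (∀ p : GolayPt, p ∈ octO → (∀ j : Fin 6, p ≠ bp j.val) →
      p = some 14 ∨ p = some 17) := by
  decide +kernel

theorem exists_tab6 {σ : M24} (h : ∀ j < 6, σ.1 (bp j) = bp j) : ∃ l ∈ tabs6, Tab σ.1 l := by
  have hg : σ.1 ∈ fixUpTo M24 6 := mem_fixUpTo.2 ⟨σ.2, h⟩
  obtain ⟨k, hk, f, hf, hft, he⟩ :=
    Golay.transversal_tab (Or.inr rfl) (Golay.orbit_subset (by norm_num) hg)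
  refine ⟨_, List.mem_map.2 ⟨_, hk, rfl⟩, ?_⟩
  have h7 : f⁻¹ * σ.1 ∈ fixUpTo M24 7 := by
    obtain ⟨hf1, hf2⟩ := mem_fixUpTo.1 hf
    refine mem_fixUpTo.2 ⟨M24.mul_mem (M24.inv_mem hf1) σ.2, fun j hj => ?_⟩
    rw [Equiv.Perm.mul_apply, Equiv.Perm.coe_inv, Equiv.symm_apply_eq]
    rcases Nat.lt_succ_iff_lt_or_eq.1 hj with hj | rfl
    · rw [h j hj, hf2 j hj]
    · exact (Golay.idx_injective he).symm
  rw [Golay.fixUpTo_seven, Subgroup.mem_bot, inv_mul_eq_one] at h7
  rw [← h7]
  exact hft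

theorem fix_of_base {σ : M24} (h : ∀ j < 6, σ.1 (bp j) = bp j) {p : GolayPt} (hp : p ∈ octO) :
    σ.1 p = p := by
  obtain ⟨l, hl, ht⟩ := exists_tab6 h
  rw [ht.apply p, tabs6_facts.2.1 l hl p hp, pt_idx]

theorem fix_symm {σ : M24} (h : ∀ p ∈ octO, σ.1 p = p) (p : GolayPt) :
    σ.1.symm p ∈ octO ↔ p ∈ octO := by
  constructor
  · intro hp
    have := h _ hp
    rw [Equiv.apply_symm_apply] at this
    rw [this]; exact hp
  · intro hp
    have : σ.1.symm p = p := by rw [Equiv.symm_apply_eq, h p hp]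
    rwa [this]

/-- The data of an element of the kernel up to sign. -/
def KerData (σ : M24) (c : Finset GolayPt) : Prop :=
  (∀ p ∈ octO, σ.1 p = p) ∧ ∀ p ∈ c, p ∉ octO

theorem kerData_mem {σ : M24} {c : Finset GolayPt} (hc : c ∈ code) (h : KerData σ c) :
    mono σ hc ∈ C0 := commute_eps_mono _ _ (fix_symm h.1)

theorem res_kerData {σ : M24} {c : Finset GolayPt} (hc : c ∈ code) (h : KerData σ c) (x : ↥L8) :
    res ⟨_, kerData_mem hc h⟩ x = x := by
  refine Subtype.ext ?_
  rw [coe_res]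
  show ((mono σ hc • toL x : leechLattice) : GolayPt → ℤ) = _
  rw [coe_mono_smul]
  funext p
  show signedPerm σ.1 c (x : GolayPt → ℤ) p = _
  simp only [signedPerm]
  by_cases hp : p ∈ octO
  · have : σ.1.symm p = p := by rw [Equiv.symm_apply_eq, h.1 p hp]
    rw [if_neg (fun hpc => h.2 p hpc hp), this]
  · have : σ.1.symm p ∉ octO := fun hh => hp ((fix_symm h.1 p).1 hh)
    rw [x.2.2 _ hp, x.2.2 _ this]
    simp

theorem rep8_eq_one {g : ↥C0} (h : ∀ x : ↥L8, res g x = x ∨ res g x = -x) : rep8 g = 1 := by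
  refine isom_ext fun k => ?_
  obtain ⟨x, rfl⟩ := psi_surjective k
  rw [act_rep8, Reflections.act_one]
  rcases h x with e | e <;> rw [e]
  have := map_neg psiHom x
  refine this.trans (funext fun j => ?_)
  exact CharTwo.neg_eq _

theorem negOne_mem_C0 : negOne ∈ C0 :=
  mem_C0.2 (Subgroup.mem_center_iff.1 negOne_mem_center _).symm

/-- `-1` in the centralizer. -/
noncomputable def negC : ↥C0 := ⟨negOne, negOne_mem_C0⟩

theorem res_negC (x : ↥L8) : res negC x = -x := by
  refine Subtype.ext ?_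
  rw [coe_res]
  show ((negOne • toL x : leechLattice) : GolayPt → ℤ) = _
  rw [negOne_smul]
  rfl

theorem rep8_negC : rep8 negC = 1 := rep8_eq_one fun x => Or.inr (res_negC x)

theorem frame_mem_L8 {p : GolayPt} (hp : p ∈ octO) : (frame p : GolayPt → ℤ) ∈ L8 :=
  ⟨(frame p).2, fun q hq => Pi.single_eq_of_ne (show q ≠ p from fun e => hq (by rw [e]; exact hp)) _⟩

/-- An element fixing the distinguished frame vector of the octad is monomial. -/
theorem mono_of_res {g : ↥C0} (h : res g ⟨_, frame_mem_L8 none_mem_octO⟩ = ⟨_, frame_mem_L8 none_mem_octO⟩) :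
    ∃ (σ : M24) (c : Finset GolayPt) (hc : c ∈ code), g.1 = mono σ hc ∧
      ∀ p, ∀ hp : p ∈ octO, (res g ⟨_, frame_mem_L8 hp⟩ : GolayPt → ℤ) =
        Pi.single (σ.1 p) (if σ.1 p ∈ c then -8 else 8) := by
  have h' : g.1 • frame none = frame none := Subtype.ext (congrArg Subtype.val h :)
  obtain ⟨σ, c, hc, e⟩ := exists_eq_mono (stdCross_stable h')
  refine ⟨σ, c, hc, e, fun p hp => ?_⟩
  rw [coe_res]
  show ((g.1 • frame p : leechLattice) : GolayPt → ℤ) = _
  rw [e, coe_mono_frame]

theorem ker_cases {g : ↥C0} (h : rep8 g = 1) :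
    ∃ (σ : M24) (c : Finset GolayPt) (hc : c ∈ code) (hk : KerData σ c),
      g = ⟨_, kerData_mem hc hk⟩ ∨ g = negC * ⟨_, kerData_mem hc hk⟩ := by
  have hp : ∀ x : ↥L8, psi (res g x : GolayPt → ℤ) = psi (x : GolayPt → ℤ) := fun x => by
    rw [← act_rep8, h, Reflections.act_one]
  have key : ∀ g : ↥C0, (∀ x, res g x = x) → ∃ (σ : M24) (c : Finset GolayPt) (hc : c ∈ code)
      (hk : KerData σ c), g = ⟨_, kerData_mem hc hk⟩ := by
    intro g hg
    obtain ⟨σ, c, hc, e, he⟩ := mono_of_res (hg _)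
    have hsp : ∀ p, p ∈ octO → σ.1 p = p ∧ p ∉ c := by
      intro p hp
      have h1 := he p hp
      rw [hg] at h1
      have h2 := congrFun h1 p
      simp only [frame, Pi.single_eq_same] at h2
      by_cases hσ : σ.1 p = p
      · refine ⟨hσ, fun hpc => ?_⟩
        rw [hσ, if_pos hpc, Pi.single_eq_same] at h2
        omega
      · rw [Pi.single_eq_of_ne (Ne.symm hσ)] at h2
        omega
    exact ⟨σ, c, hc, ⟨fun p hp => (hsp p hp).1, fun p hpc hp => (hsp p hp).2 hpc⟩, Subtype.ext e⟩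
  rcases eq_id_or_neg (res g) (sqNorm_res g) hp with h1 | h1
  · obtain ⟨σ, c, hc, hk, e⟩ := key g h1
    exact ⟨σ, c, hc, hk, Or.inl e⟩
  · have h2 : ∀ x, res (negC * g) x = x := fun x => by rw [res_mul, res_negC, h1, neg_neg]
    obtain ⟨σ, c, hc, hk, e⟩ := key _ h2
    refine ⟨σ, c, hc, hk, Or.inr ?_⟩
    rw [← e, ← mul_assoc]
    have : negC * negC = 1 := Subtype.ext (ext_frame fun i => by
      show (negOne * negOne) • frame i = (1 : Co0) • frame i
      rw [mul_smul, negOne_smul, negOne_smul, neg_neg, one_smul])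
    rw [this, one_mul]

/-- The root `4 e₁₄ - 4 e₁₇`. -/
def tVec : GolayPt → ℤ := fun p => if p = some 14 then 4 else if p = some 17 then -4 else 0

/-- Its code. -/
def codeT : ℕ := 100

theorem tVec_facts : qN codeT = true ∧ codeT < 256 ∧ (∀ i : I8, psi tVec i = vb codeT i) ∧
    sqNorm tVec = 32 ∧ tVec none = 0 ∧ (some 14 : GolayPt) ∈ octO ∧ (some 17 : GolayPt) ∈ octO := by
  decide +kernel

theorem tVec_mem : tVec ∈ L8 := by
  obtain ⟨-, -, -, -, -, h14, h17⟩ := tVec_facts
  refine ⟨?_, fun p hp => ?_⟩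
  · have e : tVec = four (some 14) (some 17) 4 (-4) := by
      funext p
      simp only [tVec, four, Pi.add_apply, Pi.single_apply]
      have n1 : (17 : ZMod 23) ≠ 14 := by decide
      have n2 : (14 : ZMod 23) ≠ 17 := by decide
      split_ifs <;> simp_all
    rw [e]
    exact (four_spec (by decide) (Or.inl rfl) (Or.inr rfl)).1
  · have h1 : p ≠ some 14 := fun e => hp (e ▸ h14)
    have h2 : p ≠ some 17 := fun e => hp (e ▸ h17)
    simp [tVec, h1, h2]

/-- The reflection of the octad lattice in that root. -/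
noncomputable def tau : ↥L8 →+ ↥L8 :=
  AddMonoidHom.mk' (fun x => x - (dotInt (x : GolayPt → ℤ) tVec / 16) • ⟨tVec, tVec_mem⟩)
    fun x y => by
      rw [AddSubgroup.coe_add, dotInt_add_left',
        Int.add_ediv_of_dvd_left (sixteen_dvd_dot x.2 tVec_mem), add_smul]
      abel

theorem sqNorm_tau (x : ↥L8) : sqNorm (tau x : GolayPt → ℤ) = sqNorm (x : GolayPt → ℤ) := by
  obtain ⟨-, -, -, hn, -⟩ := tVec_facts
  obtain ⟨k, hk⟩ := sixteen_dvd_dot x.2 tVec_mem
  show sqNorm ((x : GolayPt → ℤ) - (dotInt (x : GolayPt → ℤ) tVec / 16) • tVec) = _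
  rw [hk, Int.mul_ediv_cancel_left _ (by norm_num), sqNorm_sub]
  have e1 : dotInt (x : GolayPt → ℤ) (k • tVec) = k * dotInt (x : GolayPt → ℤ) tVec := by
    simp only [dotInt, Pi.smul_apply, smul_eq_mul, Finset.mul_sum]
    exact Finset.sum_congr rfl fun p _ => by ring
  have e2 : sqNorm (k • tVec) = k * k * sqNorm tVec := by
    simp only [sqNorm, Pi.smul_apply, smul_eq_mul, Finset.mul_sum]
    exact Finset.sum_congr rfl fun p _ => by ring
  rw [e1, e2, hk, hn]
  ring

theorem psi_tau (x : ↥L8) :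
    psi (tau x : GolayPt → ℤ) = act (refl Q8 (vb codeT)) (psi (x : GolayPt → ℤ)) := by
  obtain ⟨hq, hl, hp, -⟩ := tVec_facts
  have hp' : psi tVec = vb codeT := funext hp
  rw [act_refl (Q_ne_zero hl hq), ← hp', polar_psi tVec_mem x.2, dotInt_comm, hp',
    Q_vb hl, hq, show (bz true)⁻¹ = 1 by decide +kernel, one_mul, ← hp']
  show psiHom (x - (dotInt (x : GolayPt → ℤ) tVec / 16) • ⟨tVec, tVec_mem⟩) = _
  rw [map_sub, map_zsmul]
  funext i
  simp [psiHom, mul_comm]

/-- The reflection is not in the image. -/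
theorem refl_not_mem_img : refl Q8 (vb codeT) ∉ img := by
  rintro ⟨g, hg⟩
  obtain ⟨hq, hl, -, -, htn, h14, h17⟩ := tVec_facts
  have hrr := refl_sq hl hq
  let φ : ↥L8 →+ ↥L8 := tau.comp (res g)
  have hn : ∀ x, sqNorm (φ x : GolayPt → ℤ) = sqNorm (x : GolayPt → ℤ) := fun x =>
    (sqNorm_tau _).trans (sqNorm_res g x)
  have hp : ∀ x, psi (φ x : GolayPt → ℤ) = psi (x : GolayPt → ℤ) := fun x => by
    show psi (tau (res g x) : GolayPt → ℤ) = _
    rw [psi_tau, ← act_rep8, hg, ← act_mul, hrr, Reflections.act_one]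
  have htt : ∀ x, tau (tau x) = x := by
    intro x
    have h1 := sixteen_dvd_dot x.2 tVec_mem
    obtain ⟨k, hk⟩ := h1
    obtain ⟨-, -, -, hn32, -⟩ := tVec_facts
    refine Subtype.ext ?_
    show (tau x : GolayPt → ℤ) - (dotInt (tau x : GolayPt → ℤ) tVec / 16) • tVec = _
    have e : dotInt (tau x : GolayPt → ℤ) tVec = 16 * (-k) := by
      show dotInt ((x : GolayPt → ℤ) - (dotInt (x : GolayPt → ℤ) tVec / 16) • tVec) tVec = _
      rw [dotInt_sub_left', hk, Int.mul_ediv_cancel_left _ (by norm_num)]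
      have : dotInt (k • tVec) tVec = k * sqNorm tVec := by
        simp only [dotInt, sqNorm, Pi.smul_apply, smul_eq_mul, Finset.mul_sum]
        exact Finset.sum_congr rfl fun p _ => by ring
      rw [this, hn32]; ring
    rw [e, Int.mul_ediv_cancel_left _ (by norm_num)]
    show (x : GolayPt → ℤ) - (dotInt (x : GolayPt → ℤ) tVec / 16) • tVec - (-k) • tVec = _
    rw [hk, Int.mul_ediv_cancel_left _ (by norm_num), neg_smul]
    abel
  obtain ⟨h, hh⟩ : ∃ h : ↥C0, ∀ x, res h x = tau x := by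
    rcases eq_id_or_neg φ hn hp with h1 | h1
    · refine ⟨g, fun x => ?_⟩
      have := congrArg tau (h1 x)
      rwa [show φ x = tau (res g x) from rfl, htt] at this
    · refine ⟨negC * g, fun x => ?_⟩
      have := congrArg tau (h1 x)
      rw [show φ x = tau (res g x) from rfl, htt, map_neg] at this
      rw [res_mul, res_negC, this, neg_neg]
  have hfix : ∀ p, ∀ hp : p ∈ octO, tVec p = 0 →
      res h ⟨_, frame_mem_L8 hp⟩ = ⟨_, frame_mem_L8 hp⟩ := by
    intro p hp h0
    rw [hh]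
    refine Subtype.ext ?_
    show (frame p : GolayPt → ℤ) - (dotInt (frame p : GolayPt → ℤ) tVec / 16) • tVec = _
    rw [dotInt_frame, h0]
    simp
  obtain ⟨σ, c, hc, e, he⟩ := mono_of_res (hfix none none_mem_octO htn)
  have hb : ∀ j < 6, σ.1 (bp j) = bp j := by
    intro j hj
    have hj0 : tVec (bp j) = 0 := by
      have : ∀ j : Fin 6, tVec (bp j.val) = 0 := by decide +kernel
      exact this ⟨j, hj⟩
    have hjo := tabs6_facts.2.2.1 ⟨j, hj⟩
    have h1 := he _ hjo
    rw [hfix _ hjo hj0] at h1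
    have h2 := congrFun h1 (bp j)
    simp only [frame, Pi.single_eq_same] at h2
    by_contra hne
    rw [Pi.single_eq_of_ne (Ne.symm hne)] at h2
    omega
  have h3 := he _ h14
  rw [hh, fix_of_base hb h14] at h3
  have h4 : ((frame (some 14) : GolayPt → ℤ) -
      (dotInt (frame (some 14) : GolayPt → ℤ) tVec / 16) • tVec) (some 17) = _ := congrFun h3 (some 17)
  rw [dotInt_frame] at h4
  have n1 : (17 : ZMod 23) ≠ 14 := by decide
  have n2 : (14 : ZMod 23) ≠ 17 := by decide
  simp [frame, tVec, n1, n2] at h4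

/-- The image is the commutator subgroup. -/
theorem img_eq : img = commutator O8 := by
  obtain ⟨h1, h2⟩ := commutator_le_img
  obtain ⟨hqT, hlT, -⟩ := tVec_facts
  obtain ⟨-, -, -, la, -, qa, -⟩ := tree_facts
  refine le_antisymm (fun g hg => ?_) h1
  by_contra hn
  have hga := (h2 g).resolve_left hn
  have h3 := mul_mem hga (pair_mem_commutator la hlT qa hqT)
  rw [← mul_assoc, mul_assoc g, refl_sq la qa, mul_one] at h3
  have := mul_mem (inv_mem hg) (h1 h3)
  rw [inv_mul_cancel_left] at this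
  exact refl_not_mem_img this

theorem act_centre_fix (k : O8) (hk : ∀ i, k * rep8 (gen i) = rep8 (gen i) * k) :
    act k (vb centreVec) = vb centreVec := by
  have hfix : ∀ x : Fin 256, actN (colsTab.getD 0 []) x.val = x.val →
      actN (colsTab.getD 2 []) x.val = x.val → x.val = 0 ∨ x.val = centreVec := by decide +kernel
  have hv : centreVec < 256 ∧ actN (colsTab.getD 0 []) centreVec = centreVec ∧
      actN (colsTab.getD 2 []) centreVec = centreVec ∧ (∃ i : I8, vb centreVec i ≠ 0) := by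
    decide +kernel
  obtain ⟨hl, h0, h2, ⟨i0, hi0⟩⟩ := hv
  obtain ⟨x, hx, he⟩ := exists_vb (act k (vb centreVec))
  have hinj : ∀ a : Fin 256, ∀ b : Fin 256, (∀ i : I8, vb a.val i = vb b.val i) → a = b := by
    intro a b h
    refine Fin.ext (Nat.eq_of_testBit_eq fun j => ?_)
    by_cases hj : j < 8
    · have := h ((finSumFinEquiv : Fin 4 ⊕ Fin 4 ≃ Fin (4 + 4)).symm ⟨j, hj⟩)
      simp only [vb, Equiv.apply_symm_apply] at this
      cases ha : a.val.testBit j <;> cases hb : b.val.testBit j <;> simp [ha, hb] at this ⊢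
    · have h256 : (256 : ℕ) ≤ 2 ^ j := le_trans (show 256 ≤ 2 ^ 8 by norm_num)
        (Nat.pow_le_pow_right (by norm_num) (by omega))
      rw [Nat.testBit_lt_two_pow (lt_of_lt_of_le a.isLt h256),
        Nat.testBit_lt_two_pow (lt_of_lt_of_le b.isLt h256)]
  have hfx : ∀ i : Fin 4, actN (colsTab.getD i.val []) centreVec = centreVec →
      actN (colsTab.getD i.val []) x = x := by
    intro i hi
    have h := congrArg (fun m => act m (vb centreVec)) (hk i)
    simp only [act_mul] at h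
    rw [act_gen i hl, hi, ← he, act_gen i hx] at h
    exact congrArg Fin.val (hinj ⟨_, actN_lt i ⟨x, hx⟩⟩ ⟨x, hx⟩ fun j => congrFun h.symm j)
  rcases hfix ⟨x, hx⟩ (hfx 0 h0) (hfx 2 h2) with hx0 | hx0
  · exfalso
    change x = 0 at hx0
    subst hx0
    have hz : vb 0 = (0 : I8 → ZMod 2) := by funext i; simp [vb]
    rw [hz] at he
    have h5 : act k (vb centreVec) = act k 0 := by rw [Reflections.act_zero, ← he]
    exact hi0 (congrFun (act_injective k h5) i0)
  · change x = centreVec at hx0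
    rw [← he, hx0]

/-- The vectors reached from the fixed vector. -/
def evalVecs : List ℕ → List (ℕ × ℕ) → List ℕ
  | acc, [] => acc
  | acc, (p, k) :: r => evalVecs (acc ++ [actN (colsTab.getD k []) (acc.getD p 0)]) r

theorem evalVecs_sound (k : O8) (hk : ∀ i, k * rep8 (gen i) = rep8 (gen i) * k) :
    ∀ (st : List (ℕ × ℕ)) (acc : List ℕ), (∀ v ∈ acc, v < 256 ∧ act k (vb v) = vb v) →
      (∀ s ∈ st, s.2 < 4) → ∀ v ∈ evalVecs acc st, v < 256 ∧ act k (vb v) = vb v
  | [], acc, h, _ => h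
  | (p, i) :: r, acc, h, hi => by
    rw [evalVecs]
    refine evalVecs_sound k hk r _ ?_ (fun s hs => hi s (List.mem_cons_of_mem _ hs))
    intro v hv
    rcases List.mem_append.1 hv with hv | hv
    · exact h v hv
    · rw [List.mem_singleton] at hv
      subst hv
      have hi4 : i < 4 := hi (p, i) (List.mem_cons_self)
      have hp : acc.getD p 0 < 256 ∧ act k (vb (acc.getD p 0)) = vb (acc.getD p 0) := by
        rcases lt_or_ge p acc.length with hp | hp
        · rw [List.getD_eq_getElem _ _ hp]; exact h _ (List.getElem_mem hp)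
        · rw [List.getD_eq_default _ _ hp]
          refine ⟨by norm_num, ?_⟩
          have hz : vb 0 = (0 : I8 → ZMod 2) := by funext j; simp [vb]
          rw [hz, Reflections.act_zero]
      refine ⟨actN_lt ⟨i, hi4⟩ ⟨_, hp.1⟩, ?_⟩
      rw [← act_gen ⟨i, hi4⟩ hp.1, ← act_mul, hk, act_mul, hp.2]

/-- Closure of a list under addition. -/
def spanN : List ℕ → List ℕ
  | [] => [0]
  | a :: r => if (spanN r).contains a then spanN r else spanN r ++ (spanN r).map (a ^^^ ·)

theorem spanN_sound (k : O8) : ∀ (L : List ℕ), (∀ v ∈ L, v < 256 ∧ act k (vb v) = vb v) →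
    ∀ v ∈ spanN L, v < 256 ∧ act k (vb v) = vb v
  | [], _, v, hv => by
    rw [spanN, List.mem_singleton] at hv
    subst hv
    refine ⟨by norm_num, ?_⟩
    have hz : vb 0 = (0 : I8 → ZMod 2) := by funext j; simp [vb]
    rw [hz, Reflections.act_zero]
  | a :: r, h, v, hv => by
    have ih := spanN_sound k r fun w hw => h w (List.mem_cons_of_mem _ hw)
    rw [spanN] at hv
    split at hv
    · exact ih v hv
    · rcases List.mem_append.1 hv with hv | hv
      · exact ih v hv
      · obtain ⟨b, hb, rfl⟩ := List.mem_map.1 hv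
        obtain ⟨la, ha⟩ := h a (List.mem_cons_self)
        obtain ⟨lb, hb'⟩ := ih b hb
        exact ⟨xor_lt la lb, by rw [vb_xor, act_add, ha, hb']⟩

theorem span_facts :
    ((List.range 256).all fun v => (spanN (evalVecs [centreVec] centreSteps)).contains v) = true ∧
      centreSteps.all (fun s => Nat.blt s.2 4) = true ∧ centreVec < 256 := by
  decide +kernel

/-- The centre of the commutator subgroup is trivial. -/
theorem center_commutator : Subgroup.center ↥(commutator O8) = ⊥ := by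
  rw [eq_bot_iff]
  intro k hk
  rw [Subgroup.mem_bot]
  have hcomm : ∀ i, k.1 * rep8 (gen i) = rep8 (gen i) * k.1 := by
    intro i
    have hm : rep8 (gen i) ∈ commutator O8 := img_eq ▸ ⟨_, rfl⟩
    exact (congrArg Subtype.val (Subgroup.mem_center_iff.1 hk ⟨_, hm⟩)).symm
  obtain ⟨h1, h2, hv⟩ := span_facts
  refine Subtype.ext (isom_ext fun w => ?_)
  obtain ⟨x, hx, rfl⟩ := exists_vb w
  rw [OneMemClass.coe_one, Reflections.act_one]
  have hmem := List.contains_iff_mem.1 (List.all_eq_true.1 h1 x (List.mem_range.2 hx))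
  refine (spanN_sound k.1 _ (evalVecs_sound k.1 hcomm centreSteps [centreVec] ?_ ?_) x hmem).2
  · intro v hv'
    rw [List.mem_singleton] at hv'
    subst hv'
    exact ⟨hv, act_centre_fix k.1 hcomm⟩
  · exact fun s hs => by simpa using List.all_eq_true.1 h2 s hs

end Cfsg.Agent.Leech.Co1Cent
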