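import Cfsg.Agent.Lib.Leech.Co1Cent.Extra

/-!
`Co₁` satisfies the large extraspecial hypothesis of plus type in dimension eight.
-/

set_option autoImplicit false
set_option maxRecDepth 100000

namespace Cfsg.Agent.Leech.Co1Cent

open Cfsg Cfsg.Agent.Reflections
open Cfsg.Agent.Golay (idx pt toSet octadO popc)
open scoped Pointwise commutatorElement

/-- A criterion for the generalized Fitting subgroup. -/
theorem genFitting_of_quot {D : Type*} [Group D] [Finite D] {R : Subgroup D} [R.Normal]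
    (hnil : Group.IsNilpotent R) (hs : IsSimpleGroup (D ⧸ R)) (hns : ¬ Group.IsSolvable (D ⧸ R))
    (hC : Subgroup.centralizer (R : Set D) ≤ R) : generalizedFittingSubgroup D = R := by
  have hR : R ≤ fittingSubgroup D := Fitting.le_fitting inferInstance hnil
  have hF : fittingSubgroup D ≤ R := by
    have := Fitting.fitting_normal (G := D)
    rcases IsSimpleGroup.eq_bot_or_eq_top_of_normal _
      (this.map (QuotientGroup.mk' R) (QuotientGroup.mk'_surjective R)) with h | h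
    · intro x hx
      rw [← QuotientGroup.eq_one_iff, ← QuotientGroup.mk'_apply, ← Subgroup.mem_bot, ← h]
      exact ⟨x, hx, rfl⟩
    · exfalso
      apply hns
      have hn := Fitting.isNilpotent_map (N := fittingSubgroup D) (QuotientGroup.mk' R)
        Fitting.fitting_isNilpotent
      rw [h] at hn
      have : Group.IsNilpotent (D ⧸ R) := Group.isNilpotent_top.1 hn
      infer_instance
  rw [generalizedFittingSubgroup, le_antisymm hF hR, sup_eq_right]
  refine Components.layer_le_centralizer_fitting.trans ?_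
  rw [le_antisymm hF hR]
  exact hC

theorem exists_move : ∃ (k : Fin 3) (j j' : Fin 32),
    (∀ p : GolayPt, pt ((monTab.getD k.val ([], 0)).1.getD (idx p) 0) ∈ toSet (maskN j) ↔
      p ∈ toSet (maskN j')) ∧ maskN j ≠ maskN j' ∧ maskN j' ≠ maskN j ^^^ ocMask := by
  decide +kernel

theorem mono_conj (σ : M24) {d c c' : Finset GolayPt} (hd : d ∈ code) (hc : c ∈ code)
    (hc' : c' ∈ code) (h : ∀ p, σ.1.symm p ∈ c ↔ p ∈ c') :
    mono σ hd * mono 1 hc = mono 1 hc' * mono σ hd := by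
  refine ext_frame fun i => Subtype.ext ?_
  rw [mul_smul, mul_smul, coe_mono_smul, coe_mono_smul, coe_mono_smul, coe_mono_smul]
  funext p
  simp only [signedPerm, show ∀ r, (Equiv.symm (1 : Equiv.Perm GolayPt)) r = r from fun _ => rfl,
    Subgroup.coe_one, h p]
  split_ifs <;> simp

/-- The centralizer acts non-trivially on the kernel modulo its centre. -/
theorem not_inner : ∃ (x : ↥C1) (a b : ↥QC), x * (a : ↥C1) = (b : ↥C1) * x ∧
    ∀ q : ↥QC, q * a * q⁻¹ ≠ b := by
  obtain ⟨k, j, j', h, hne, hne'⟩ := exists_move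
  have hgen : ∃ hm : mono (monSigma k) (monCode_mem k) ∈ C0, True := by
    match k with
    | 0 => exact ⟨(gen 0).2, trivial⟩
    | 1 => exact ⟨(gen 1).2, trivial⟩
    | 2 => exact ⟨(gen 2).2, trivial⟩
  obtain ⟨hm, -⟩ := hgen
  refine ⟨cov ⟨_, hm⟩, q9 (i0, j), q9 (i0, j'), ?_, fun q hq => ?_⟩
  · show cov _ * cov (el i0 j) = cov (el i0 j') * cov _
    rw [← map_mul, ← map_mul]
    refine congrArg cov (Subtype.ext ?_)
    show mono _ _ * mono (sigT i0) _ = mono (sigT i0) _ * mono _ _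
    have e : ∀ {c : Finset GolayPt} (hc : c ∈ code), mono (sigT i0) hc = mono 1 hc := fun _ =>
      mono_congr sigT_i0 rfl
    rw [e, e]
    refine mono_conj _ _ _ _ fun p => ?_
    rw [monSigma_symm]
    exact h p
  · have h1 : ⁅q, q9 (i0, j)⁆ * q9 (i0, j) = q9 (i0, j') := by
      rw [← hq, commutatorElement_def]; group
    obtain ⟨n, hn⟩ := Subgroup.mem_zpowers_iff.1 (comm_mem q (q9 (i0, j)))
    have hw2 : wQ ^ (2 : ℤ) = 1 := by
      refine Subtype.ext (Subtype.ext ?_)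
      rw [SubgroupClass.coe_zpow, SubgroupClass.coe_zpow, coe_wQ, OneMemClass.coe_one,
        OneMemClass.coe_one, zpow_two, ← pow_two, ← orderOf_zC, pow_orderOf_eq_one]
    rcases Int.even_or_odd' n with ⟨m, e | e⟩ <;> rw [e] at hn
    · rw [zpow_mul, hw2, one_zpow] at hn
      rw [← hn, one_mul] at h1
      exact hne (congrArg (fun x : Fin 16 × Fin 32 => maskN x.2) (q9_bijective.1 h1))
    · rw [zpow_add, zpow_mul, hw2, one_zpow, one_mul, zpow_one] at hn
      rw [← hn] at h1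
      obtain ⟨hcode, e1, d1⟩ := el_mul i0 i0 jc j
      have h2 : mk1 (el i0 jc * el i0 j).1 = mk1 (el i0 j').1 :=
        congrArg Subtype.val (congrArg Subtype.val h1)
      rw [e1] at h2
      have h3 := (mk1_mono_inj d1 (kerData_el i0 j').2 h2).2
      have h4 := Golay.toSet_injOn (mul_lt _ _ _) (Golay.inCode_lt (maskN_spec j').1) h3
      rw [img_trivial.1 j, mask_jc, Nat.xor_comm] at h4
      exact hne' h4.symm

theorem centralizer_QC : Subgroup.centralizer (QC : Set ↥C1) ≤ QC := by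
  obtain ⟨e⟩ := quot_equiv
  have := simple_commutator
  have hs : IsSimpleGroup (↥C1 ⧸ QC) := MulEquiv.isSimpleGroup e
  have hn : (Subgroup.centralizer (QC : Set ↥C1)).Normal := inferInstance
  rcases IsSimpleGroup.eq_bot_or_eq_top_of_normal _
    (hn.map (QuotientGroup.mk' QC) (QuotientGroup.mk'_surjective QC)) with h | h
  · intro x hx
    rw [← QuotientGroup.eq_one_iff, ← QuotientGroup.mk'_apply, ← Subgroup.mem_bot, ← h]
    exact ⟨x, hx, rfl⟩
  · exfalso
    obtain ⟨x, a, b, hab, hni⟩ := not_inner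
    have hx : QuotientGroup.mk' QC x ∈ (Subgroup.centralizer (QC : Set ↥C1)).map
        (QuotientGroup.mk' QC) := h ▸ Subgroup.mem_top _
    obtain ⟨d, hd, hdx⟩ := hx
    rw [QuotientGroup.mk'_eq_mk'] at hdx
    obtain ⟨r, hr, rfl⟩ := hdx
    refine hni ⟨d * r * d⁻¹, Subgroup.Normal.conj_mem inferInstance r hr d⟩ (Subtype.ext ?_)
    have hcd : ∀ y ∈ QC, y * d = d * y := fun y hy => Subgroup.mem_centralizer_iff.1 hd y hy
    show d * r * d⁻¹ * (a : ↥C1) * (d * r * d⁻¹)⁻¹ = (b : ↥C1)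
    have hr' : d * r * d⁻¹ = r := by rw [← hcd r hr]; group
    rw [hr', mul_inv_eq_iff_eq_mul]
    have h1 : d * r * (a : ↥C1) = d * ((b : ↥C1) * r) := by
      rw [hab, ← mul_assoc, hcd _ b.2, mul_assoc]
    rw [mul_assoc] at h1
    exact mul_left_cancel h1

theorem disjoint_octad : ∃ j : Fin 32, popc (maskN j) = 8 ∧ maskN j ≠ ocMask := by decide +kernel

theorem coe_el (i : Fin 16) (j : Fin 32) : (el i j).1 = mono (sigT i) (code_mask j) := rfl

theorem coe_q9 (i : Fin 16) (j : Fin 32) : ((q9 (i, j) : ↥C1) : Spor.Co1) = mk1 (el i j).1 := rfl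

theorem conj_witness (g : Co0) (i : Fin 16) (j : Fin 32) (e : g * epsO = (el i j).1 * g)
    (hne : maskN j ≠ maskN jc) : ∃ g : Spor.Co1, (∃ hq : g * zC * g⁻¹ ∈ C1,
    (⟨g * zC * g⁻¹, hq⟩ : ↥C1) ∈ QC) ∧ g * zC * g⁻¹ ≠ zC := by
  have hval : mk1 g * zC * (mk1 g)⁻¹ = ((q9 (i, j) : ↥C1) : Spor.Co1) := by
    rw [mul_inv_eq_iff_eq_mul, coe_q9, zC, ← map_mul, ← map_mul, e]
  have hm : mk1 g * zC * (mk1 g)⁻¹ ∈ C1 := hval.symm ▸ (q9 (i, j) : ↥C1).2
  refine ⟨mk1 g, ⟨hm, ?_⟩, ?_⟩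
  · have h1 : (⟨mk1 g * zC * (mk1 g)⁻¹, hm⟩ : ↥C1) = (q9 (i, j) : ↥C1) := Subtype.ext hval
    rw [h1]
    exact (q9 (i, j)).2
  · rw [hval, ← coe_wQ]
    intro h
    exact hne (congrArg (fun x : Fin 16 × Fin 32 => maskN x.2)
      (q9_bijective.1 (Subtype.ext (Subtype.ext h) : q9 (i, j) = q9 (i0, jc))))

theorem exists_conjugate : ∃ g : Spor.Co1, (∃ hq : g * zC * g⁻¹ ∈ C1,
    (⟨g * zC * g⁻¹, hq⟩ : ↥C1) ∈ QC) ∧ g * zC * g⁻¹ ≠ zC := by
  obtain ⟨j, hpop, hne⟩ := disjoint_octad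
  have ho : toSet (maskN j) ∈ octads :=
    Golay.octad_mem_iff.2 ⟨_, (maskN_spec j).1, hpop, rfl⟩
  obtain ⟨σ, hσ, hσo⟩ := Golay.octad_transitive octO_mem ho
  have e : mono ⟨σ, hσ⟩ empty_mem_code * mono 1 octO_mem.1 =
      mono 1 (code_mask j) * mono ⟨σ, hσ⟩ empty_mem_code := by
    refine mono_conj _ _ _ _ fun p => ?_
    rw [← hσo, Finset.mem_smul_finset]
    constructor
    · intro hp; exact ⟨_, hp, by simp⟩
    · rintro ⟨q, hq, rfl⟩; simpa using hq
  have hj : mono 1 (code_mask j) = (el i0 j).1 := (mono_congr sigT_i0.symm rfl).trans (coe_el i0 j).symm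
  rw [hj] at e
  exact conj_witness _ i0 j e fun h => hne (h.trans mask_jc)

theorem co1_large_extraspecial : ∃ z : Spor.Co1, orderOf z = 2 ∧
    ∃ (Q : Subgroup (Subgroup.centralizer ({z} : Set Spor.Co1))) (_ : Q.Normal),
      generalizedFittingSubgroup (Subgroup.centralizer ({z} : Set Spor.Co1)) = Q ∧
      IsExtraspecial 2 Q ∧ Nat.card Q = 2 ^ 9 ∧
      Nonempty ((Subgroup.centralizer ({z} : Set Spor.Co1)) ⧸ Q ≃*
        Cfsg.Omega (ZMod 2) (Cfsg.quadFormPlus 4 (ZMod 2))) ∧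
      ∃ g : Spor.Co1, (∃ hq : g * z * g⁻¹ ∈ Subgroup.centralizer ({z} : Set Spor.Co1),
        (⟨g * z * g⁻¹, hq⟩ : Subgroup.centralizer ({z} : Set Spor.Co1)) ∈ Q) ∧ g * z * g⁻¹ ≠ z := by
  have : Finite Co0 := finite_Co0 codeUnique
  have := simple_commutator
  obtain ⟨e⟩ := quot_equiv
  refine ⟨zC, orderOf_zC, QC, inferInstance, ?_, QC_extraspecial, card_QC, ?_, exists_conjugate⟩
  · have : Fact (Nat.Prime 2) := ⟨Nat.prime_two⟩
    exact genFitting_of_quot (IsPGroup.of_card card_QC).isNilpotent (MulEquiv.isSimpleGroup e)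
      (fun hs => not_solvable_commutator
        (solvable_of_surjective (f := e.toMonoidHom) e.surjective))
      centralizer_QC
  · rw [← Reflections.coe_qPlus]
    exact ⟨e⟩

end Cfsg.Agent.Leech.Co1Cent
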