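import Cfsg.Agent.Lib.OrthCohom.Plus
import Cfsg.Agent.Lib.UnitaryOrthogonal.OmegaStandard

/-!
The orthogonal group of plus type in dimension eight over two elements: `Ω` is generated by the
products of two reflections, on bit-coded vectors.
-/

set_option autoImplicit false

namespace Cfsg.Agent.Leech.Co1Cent

open QuadraticMap Matrix Cfsg.Agent.Reflections
open scoped commutatorElement

/-- The index set. -/
abbrev I8 : Type := Fin 4 ⊕ Fin 4

/-- The form. -/
abbrev Q8 : QuadraticForm (ZMod 2) (I8 → ZMod 2) := qPlus 4 (ZMod 2)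

/-- The isometry group. -/
abbrev O8 : Type := ↥(Cfsg.isometryGroup (ZMod 2) ⇑Q8)

/-- The vector with bit code `k`. -/
def vb (k : ℕ) : I8 → ZMod 2 :=
  fun i => if k.testBit ((finSumFinEquiv : Fin 4 ⊕ Fin 4 ≃ Fin (4 + 4)) i) then 1 else 0

/-- The form on codes. -/
def qN (k : ℕ) : Bool :=
  ((k.testBit 0 && k.testBit 4) != (k.testBit 1 && k.testBit 5)) !=
    ((k.testBit 2 && k.testBit 6) != (k.testBit 3 && k.testBit 7))

/-- The polar form on codes. -/
def polN (a b : ℕ) : Bool := (qN (a ^^^ b) != qN a) != qN b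

/-- A reflection on codes. -/
def reflN (a x : ℕ) : ℕ := if polN a x then x ^^^ a else x

/-- The value of a truth value. -/
def bz (b : Bool) : ZMod 2 := if b then 1 else 0

theorem bz_xor (a b : Bool) : bz (a != b) = bz a + bz b := by cases a <;> cases b <;> decide

theorem add_self8 : ∀ a : ZMod 2, a + a = 0 := by decide

theorem vb_xor (a b : ℕ) : vb (a ^^^ b) = vb a + vb b := by
  funext i
  simp only [vb, Nat.testBit_xor, Pi.add_apply]
  cases a.testBit _ <;> cases b.testBit _ <;> decide

theorem exists_vb : ∀ x : I8 → ZMod 2, ∃ k < 256, vb k = x := by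
  intro x
  have h : ∀ t : Fin 4 → ZMod 2, ∀ s : Fin 4 → ZMod 2, ∃ k : Fin 256, vb k.val = Sum.elim t s := by
    intro t s
    refine ⟨⟨(t 0).val + 2 * (t 1).val + 4 * (t 2).val + 8 * (t 3).val + 16 * (s 0).val +
      32 * (s 1).val + 64 * (s 2).val + 128 * (s 3).val, ?_⟩, ?_⟩
    · have := ZMod.val_lt (t 0); have := ZMod.val_lt (t 1); have := ZMod.val_lt (t 2)
      have := ZMod.val_lt (t 3); have := ZMod.val_lt (s 0); have := ZMod.val_lt (s 1)
      have := ZMod.val_lt (s 2); have := ZMod.val_lt (s 3)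
      omega
    · have key : ∀ a b c d e f g h : ZMod 2, ∀ i : I8,
          vb (a.val + 2 * b.val + 4 * c.val + 8 * d.val + 16 * e.val + 32 * f.val + 64 * g.val +
            128 * h.val) i = Sum.elim ![a, b, c, d] ![e, f, g, h] i := by decide +kernel
      funext i
      have := key (t 0) (t 1) (t 2) (t 3) (s 0) (s 1) (s 2) (s 3) i
      convert this using 2 <;> funext j <;> fin_cases j <;> rfl
  obtain ⟨k, hk⟩ := h (fun i => x (Sum.inl i)) (fun i => x (Sum.inr i))
  exact ⟨k.val, k.isLt, hk.trans (funext fun i => by cases i <;> rfl)⟩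

theorem Q_vb {k : ℕ} (hk : k < 256) : Q8 (vb k) = bz (qN k) := by
  have h : ∀ k : Fin 256, Cfsg.quadFormPlus 4 (ZMod 2) (vb k.val) = bz (qN k.val) := by
    decide +kernel
  rw [show (Q8 (vb k)) = Cfsg.quadFormPlus 4 (ZMod 2) (vb k) from congrFun (coe_qPlus 4 (ZMod 2)) _]
  exact h ⟨k, hk⟩

theorem xor_lt {a b : ℕ} (ha : a < 256) (hb : b < 256) : a ^^^ b < 256 :=
  Nat.xor_lt_two_pow (n := 8) ha hb

theorem polar_vb {a b : ℕ} (ha : a < 256) (hb : b < 256) :
    polar ⇑Q8 (vb a) (vb b) = bz (polN a b) := by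
  rw [polar, ← vb_xor, Q_vb (xor_lt ha hb), Q_vb ha, Q_vb hb, polN, bz_xor, bz_xor,
    sub_eq_add_neg, sub_eq_add_neg, CharTwo.neg_eq, CharTwo.neg_eq]

theorem Q_ne_zero {a : ℕ} (ha : a < 256) (hq : qN a = true) : Q8 (vb a) ≠ 0 := by
  rw [Q_vb ha, hq]; decide

theorem reflN_lt {a x : ℕ} (ha : a < 256) (hx : x < 256) : reflN a x < 256 := by
  rw [reflN]
  split
  · exact xor_lt hx ha
  · exact hx

theorem act_refl_vb {a x : ℕ} (ha : a < 256) (hx : x < 256) (hq : qN a = true) :
    act (refl Q8 (vb a)) (vb x) = vb (reflN a x) := by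
  rw [act_refl (Q_ne_zero ha hq), polar_vb ha hx, Q_vb ha, hq, reflN]
  cases polN a x
  · rw [if_neg (by decide), show (bz true)⁻¹ * bz false = 0 by decide +kernel, zero_smul, sub_zero]
  · rw [if_pos rfl, show (bz true)⁻¹ * bz true = 1 by decide +kernel, one_smul, sub_eq_add_neg, vb_xor]
    congr 1
    funext i
    exact CharTwo.neg_eq _

theorem polN_facts : (∀ a : Fin 256, qN a.val = true → ∀ b : Fin 256, qN b.val = true →
    (List.range 256).any (fun w => qN w && polN a.val w && polN w b.val) = true) := by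
  decide +kernel

theorem reflN_partner : ∀ a : Fin 256, ∀ b : Fin 256, qN a.val = true → qN b.val = true →
    polN a.val b.val = true → reflN a.val b.val = reflN b.val a.val ∧
      qN (reflN a.val b.val) = true := by
  decide +kernel

theorem refl_sq {a : ℕ} (ha : a < 256) (hq : qN a = true) :
    refl Q8 (vb a) * refl Q8 (vb a) = 1 := refl_mul_self (Q_ne_zero ha hq)

/-- The squares lie in the commutator subgroup. -/
theorem sq_mem_commutator (g : O8) : g * g ∈ commutator O8 := by
  have key : ∀ g : O8, Abelianization.of g * Abelianization.of g = 1 := by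
    intro g
    refine reflGroup_induction (p := fun g => Abelianization.of g * Abelianization.of g = 1)
      (by simp) ?_ (OrthCohom.reflGroup_plus8 ▸ Subgroup.mem_top g)
    intro v h hv ih
    rw [map_mul, mul_mul_mul_comm, ← map_mul, refl_mul_self hv, map_one, one_mul, ih]
  have := key g
  rw [← map_mul] at this
  exact (QuotientGroup.eq_one_iff _).1 this

theorem pair_mem_commutator {a b : ℕ} (ha : a < 256) (hb : b < 256) (hqa : qN a = true)
    (hqb : qN b = true) : refl Q8 (vb a) * refl Q8 (vb b) ∈ commutator O8 := by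
  have key : ∀ a b : ℕ, a < 256 → b < 256 → qN a = true → qN b = true → polN a b = true →
      refl Q8 (vb a) * refl Q8 (vb b) ∈ commutator O8 := by
    intro a b ha hb hqa hqb hp
    obtain ⟨he, hqc⟩ := reflN_partner ⟨a, ha⟩ ⟨b, hb⟩ hqa hqb hp
    set u := refl Q8 (vb a)
    set v := refl Q8 (vb b)
    have huu : u * u = 1 := refl_sq ha hqa
    have hvv : v * v = 1 := refl_sq hb hqb
    have h1 : u * v * u = refl Q8 (vb (reflN a b)) := by
      have := conj_refl u (Q_ne_zero hb hqb)
      rw [act_refl_vb ha hb hqa, show u⁻¹ = u from inv_eq_of_mul_eq_one_left huu] at this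
      exact this
    have h2 : v * u * v = refl Q8 (vb (reflN a b)) := by
      have := conj_refl v (Q_ne_zero ha hqa)
      rw [act_refl_vb hb ha hqb, ← he, show v⁻¹ = v from inv_eq_of_mul_eq_one_left hvv] at this
      exact this
    have h3 : (u * v) * ((u * v) * (u * v)) = 1 := by
      calc (u * v) * ((u * v) * (u * v)) = (u * v * u) * (v * u * v) := by group
        _ = 1 := by rw [h1, h2]; exact refl_sq (reflN_lt ha hb) hqc
    have h4 : u * v = ((u * v) * (u * v)) * ((u * v) * (u * v)) := by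
      calc u * v = (u * v) * 1 := (mul_one _).symm
        _ = (u * v) * ((u * v) * ((u * v) * (u * v))) := by rw [h3]
        _ = _ := by group
    rw [h4]
    exact sq_mem_commutator _
  have hw := polN_facts ⟨a, ha⟩ hqa ⟨b, hb⟩ hqb
  rw [List.any_eq_true] at hw
  obtain ⟨w, hw, hwc⟩ := hw
  rw [List.mem_range] at hw
  simp only [Bool.and_eq_true] at hwc
  obtain ⟨⟨hqw, h1⟩, h2⟩ := hwc
  have e : refl Q8 (vb a) * refl Q8 (vb b) =
      (refl Q8 (vb a) * refl Q8 (vb w)) * (refl Q8 (vb w) * refl Q8 (vb b)) := by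
    rw [mul_assoc, ← mul_assoc (refl Q8 (vb w)), refl_sq hw hqw, one_mul]
  rw [e]
  exact mul_mem (key a w ha hw hqa hqw h1) (key w b hw hb hqw hqb h2)

/-- A subgroup containing `r_{a} r_v` for all `v` contains `Ω` and, with `r_a`, everything. -/
theorem spans {H : Subgroup O8} {a : ℕ} (ha : a < 256) (hqa : qN a = true)
    (h : ∀ v < 256, qN v = true → refl Q8 (vb a) * refl Q8 (vb v) ∈ H) :
    commutator O8 ≤ H ∧ ∀ g : O8, g ∈ commutator O8 ∨ g * refl Q8 (vb a) ∈ commutator O8 := by
  set r := refl Q8 (vb a) with hr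
  have hrr : r * r = 1 := refl_sq ha hqa
  have hrv : ∀ w : I8 → ZMod 2, Q8 w ≠ 0 → ∃ v < 256, qN v = true ∧ w = vb v := by
    intro w hw
    obtain ⟨v, hv, rfl⟩ := exists_vb w
    refine ⟨v, hv, ?_, rfl⟩
    rw [Q_vb hv] at hw
    cases hq : qN v
    · rw [hq] at hw; exact absurd rfl hw
    · rfl
  have hdec : ∀ g : O8, ∀ (K : Subgroup O8),
      (∀ v < 256, qN v = true → r * refl Q8 (vb v) ∈ K) → g ∈ K ∨ r * g ∈ K := by
    intro g K hK
    refine reflGroup_induction (p := fun g => g ∈ K ∨ r * g ∈ K) (Or.inl K.one_mem) ?_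
      (OrthCohom.reflGroup_plus8 ▸ Subgroup.mem_top g)
    intro w g hw ih
    obtain ⟨v, hv, hq, rfl⟩ := hrv w hw
    rcases ih with ih | ih
    · refine Or.inr ?_
      rw [← mul_assoc]
      exact mul_mem (hK v hv hq) ih
    · refine Or.inl ?_
      have h1 := inv_mem (hK v hv hq)
      rw [_root_.mul_inv_rev, refl_inv (Q_ne_zero hv hq), inv_eq_of_mul_eq_one_left hrr] at h1
      have := mul_mem h1 ih
      rwa [← mul_assoc, mul_assoc (refl Q8 (vb v)), hrr, mul_one] at this
  have hsq : ∀ g : O8, g * g ∈ H := by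
    intro g
    rcases hdec g H h with h1 | h1
    · exact mul_mem h1 h1
    · rcases hdec (g * g) H h with h2 | h2
      · exact h2
      · have h3 : g ∈ H := by
          have := mul_mem (inv_mem h1) h2
          rwa [_root_.mul_inv_rev, mul_assoc, inv_mul_cancel_left, inv_mul_cancel_left] at this
        exact mul_mem h3 h3
  refine ⟨?_, fun g => ?_⟩
  · rw [commutator_def, Subgroup.commutator_le]
    intro x _ y _
    have e : ⁅x, y⁆ = (x * y) * (x * y) * ((y⁻¹ * x⁻¹ * y) * (y⁻¹ * x⁻¹ * y)) * (y⁻¹ * y⁻¹) := by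
      rw [commutatorElement_def]; group
    rw [e]
    exact mul_mem (mul_mem (hsq _) (hsq _)) (hsq _)
  · rcases hdec g (commutator O8) (fun v hv hq => pair_mem_commutator ha hv hqa hq) with h1 | h1
    · exact Or.inl h1
    · refine Or.inr ?_
      have hn : (commutator O8).Normal := inferInstance
      have := hn.conj_mem _ h1 r
      rwa [inv_eq_of_mul_eq_one_left hrr, ← mul_assoc, hrr, one_mul] at this

end Cfsg.Agent.Leech.Co1Cent
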