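import Cfsg.Agent.Lib.Leech.Co1Cent.Xi
import Cfsg.Agent.Lib.Leech.Center
import Cfsg.Agent.Lib.Leech.Transitive
import Cfsg.Agent.Lib.Golay.Fixed

/-!
The action of the centralizer of the octad involution on the octad lattice modulo 2, and its
image and kernel.
-/

set_option autoImplicit false
set_option maxRecDepth 100000

namespace Cfsg.Agent.Leech.Co1Cent

open Cfsg Matrix Cfsg.Agent.Reflections
open Cfsg.Agent.Golay (idx pt toSet octadO idx_lt pt_idx idx_pt Tab tab_permOf permOf isPermTab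
  checkAut inCode fixUpTo mem_fixUpTo bp comp idTab evalSLP gens24 prog24 reps24 baseN)

/-- The sign change on the octad. -/
noncomputable def epsO : Co0 := mono 1 octO_mem.1

/-- Its centralizer. -/
noncomputable abbrev C0 : Subgroup Co0 := Subgroup.centralizer ({epsO} : Set Co0)

theorem mem_C0 {g : Co0} : g ∈ C0 ↔ g * epsO = epsO * g := Subgroup.mem_centralizer_singleton_iff

theorem coe_epsO_smul (v : leechLattice) :
    ((epsO • v : leechLattice) : GolayPt → ℤ) = signedPerm 1 octO (v : GolayPt → ℤ) :=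
  coe_mono_smul _ _ _

theorem mem_L8_iff (v : leechLattice) : (v : GolayPt → ℤ) ∈ L8 ↔ epsO • v = -v := by
  rw [mem_L8, Subtype.ext_iff, coe_epsO_smul, AddSubgroup.coe_neg, funext_iff]
  constructor
  · intro h p
    simp only [signedPerm, Pi.neg_apply]
    by_cases hp : p ∈ octO
    · simp [hp]; rfl
    · simp [hp]
      have := h.2 p hp
      rw [show (Equiv.symm (1 : Equiv.Perm GolayPt)) p = p from rfl, this]
      rfl
  · intro h
    refine ⟨v.2, fun p hp => ?_⟩
    have h1 := h p
    simp only [signedPerm, hp, if_false, Pi.neg_apply] at h1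
    change (v : GolayPt → ℤ) p = -(v : GolayPt → ℤ) p at h1
    omega

theorem smul_mem_L8 {g : Co0} (hg : g ∈ C0) {v : leechLattice} (hv : (v : GolayPt → ℤ) ∈ L8) :
    ((g • v : leechLattice) : GolayPt → ℤ) ∈ L8 := by
  rw [mem_L8_iff] at hv ⊢
  rw [← mul_smul, ← mem_C0.1 hg, mul_smul, hv, smul_neg']

/-- A vector of the octad lattice in the Leech lattice. -/
def toL (x : ↥L8) : leechLattice := ⟨(x : GolayPt → ℤ), x.2.1⟩

/-- The action on the octad lattice. -/
noncomputable def res (g : ↥C0) : ↥L8 →+ ↥L8 :=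
  AddMonoidHom.mk' (fun x => ⟨((g.1 • toL x : leechLattice) : GolayPt → ℤ), smul_mem_L8 g.2 x.2⟩)
    fun x y => Subtype.ext (by
      show ((g.1 • toL (x + y) : leechLattice) : GolayPt → ℤ) = _
      rw [show toL (x + y) = toL x + toL y from rfl, smul_add']
      rfl)

theorem coe_res (g : ↥C0) (x : ↥L8) :
    (res g x : GolayPt → ℤ) = ((g.1 • toL x : leechLattice) : GolayPt → ℤ) := rfl

theorem sqNorm_res (g : ↥C0) (x : ↥L8) :
    sqNorm (res g x : GolayPt → ℤ) = sqNorm (x : GolayPt → ℤ) := sqNorm_smul g.1 (toL x)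

theorem res_mul (g h : ↥C0) (x : ↥L8) : res (g * h) x = res g (res h x) :=
  Subtype.ext (by rw [coe_res, Subgroup.coe_mul, mul_smul]; rfl)

theorem res_one (x : ↥L8) : res 1 x = x := Subtype.ext (by rw [coe_res, Subgroup.coe_one, one_smul]; rfl)

/-- The matrix modulo 2. -/
noncomputable def matG (g : ↥C0) : Matrix I8 I8 (ZMod 2) :=
  Matrix.of fun i j => psi (res g ⟨hv j, hv_mem j⟩ : GolayPt → ℤ) i

theorem matG_psi (g : ↥C0) (x : ↥L8) : matG g *ᵥ psi (x : GolayPt → ℤ) = psi (res g x : GolayPt → ℤ) := by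
  have h : psi (res g x : GolayPt → ℤ) =
      ∑ j, coord x j • psi (res g ⟨hv j, hv_mem j⟩ : GolayPt → ℤ) := by
    have := congrArg (fun y => psiHom (res g y)) (expand' x)
    simp only [map_sum, map_zsmul] at this
    exact this
  rw [h]
  funext i
  rw [Finset.sum_apply]
  show ∑ j, psi (res g ⟨hv j, hv_mem j⟩ : GolayPt → ℤ) i * psi (x : GolayPt → ℤ) j = _
  refine Finset.sum_congr rfl fun j _ => ?_
  rw [psi_coord x.2, Pi.smul_apply, zsmul_eq_mul, mul_comm]

theorem psi_surjective (k : I8 → ZMod 2) : ∃ x : ↥L8, psi (x : GolayPt → ℤ) = k := by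
  refine ⟨∑ j, ((k j).val : ℤ) • (⟨hv j, hv_mem j⟩ : ↥L8), ?_⟩
  show psiHom _ = k
  rw [map_sum]
  funext i
  rw [Finset.sum_apply]
  simp only [map_zsmul, Pi.smul_apply]
  simp [psiHom, psi_hv]

theorem matG_mul (g h : ↥C0) : matG (g * h) = matG g * matG h := by
  refine Matrix.ext_of_mulVec_single fun j => ?_
  obtain ⟨x, hx⟩ := psi_surjective (Pi.single j 1)
  rw [← hx, matG_psi, ← Matrix.mulVec_mulVec, matG_psi, matG_psi, res_mul]

theorem matG_one : matG 1 = 1 := by
  refine Matrix.ext_of_mulVec_single fun j => ?_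
  obtain ⟨x, hx⟩ := psi_surjective (Pi.single j 1)
  rw [← hx, matG_psi, res_one, Matrix.one_mulVec]

/-- The action as a map into the general linear group. -/
noncomputable def repGL : ↥C0 →* GL I8 (ZMod 2) :=
  ({ toFun := matG, map_one' := matG_one, map_mul' := matG_mul } :
    ↥C0 →* Matrix I8 I8 (ZMod 2)).toHomUnits

theorem repGL_mem (g : ↥C0) : repGL g ∈ Cfsg.isometryGroup (ZMod 2) ⇑Q8 := by
  refine mem_isometryGroup Q8 _ fun k => ?_
  obtain ⟨x, rfl⟩ := psi_surjective k
  show Q8 (matG g *ᵥ _) = _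
  rw [matG_psi, (form_psi (res g x).2).2, (form_psi x.2).2, sqNorm_res]

/-- The representation. -/
noncomputable def rep8 : ↥C0 →* O8 := repGL.codRestrict _ repGL_mem

theorem act_rep8 (g : ↥C0) (x : ↥L8) :
    act (rep8 g) (psi (x : GolayPt → ℤ)) = psi (res g x : GolayPt → ℤ) := matG_psi g x

theorem mat_rep8 (g : ↥C0) : mat (rep8 g) = matG g := rfl

/-! ### The generators -/

/-- Half the image of a coded vector: the action on codes. -/
def actN (cols : List ℕ) (x : ℕ) : ℕ :=
  (List.range 8).foldl (fun acc j => if x.testBit j then acc ^^^ cols.getD j 0 else acc) 0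

/-- A matrix from its coded columns. -/
def colMat (cols : List ℕ) (i j : I8) : ZMod 2 := vb (cols.getD (num j) 0) i

theorem colMat_act : ∀ k : Fin 4, ∀ x : Fin 256, ∀ i : I8,
    (∑ j, colMat (colsTab.getD k.val []) i j * vb x.val j) =
      vb (actN (colsTab.getD k.val []) x.val) i := by
  decide +kernel

theorem actN_lt : ∀ k : Fin 4, ∀ x : Fin 256, actN (colsTab.getD k.val []) x.val < 256 := by
  decide +kernel

theorem mon_facts : ∀ k : Fin 3,
    isPermTab (monTab.getD k.val ([], 0)).1 = true ∧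
    checkAut (monTab.getD k.val ([], 0)).1 = true ∧
    inCode (monTab.getD k.val ([], 0)).2 = true ∧
    ∀ p : GolayPt, (pt ((monTab.getD k.val ([], 0)).1.getD (idx p) 0) ∈ octO ↔ p ∈ octO) := by
  decide +kernel

/-- The permutation part. -/
noncomputable def monSigma (k : Fin 3) : M24 :=
  (⟨permOf _ (mon_facts k).1, (tab_permOf _).mem_M24 (mon_facts k).2.1⟩ : M24)⁻¹

theorem monSigma_symm (k : Fin 3) (p : GolayPt) :
    (monSigma k).1.symm p = pt ((monTab.getD k.val ([], 0)).1.getD (idx p) 0) := by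
  show (permOf _ (mon_facts k).1) p = _
  rw [(tab_permOf (mon_facts k).1).apply p]

theorem monCode_mem (k : Fin 3) : toSet (monTab.getD k.val ([], 0)).2 ∈ code :=
  Golay.mem_supports_iff.2 ⟨_, (mon_facts k).2.2.1, rfl⟩

theorem commute_eps_mono (σ : M24) {c : Finset GolayPt} (hc : c ∈ code)
    (h : ∀ p, σ.1.symm p ∈ octO ↔ p ∈ octO) : mono σ hc ∈ C0 := by
  rw [mem_C0]
  refine ext_frame fun i => Subtype.ext ?_
  rw [mul_smul, mul_smul, coe_mono_smul, coe_epsO_smul, coe_epsO_smul, coe_mono_smul]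
  funext p
  simp only [signedPerm, Equiv.Perm.coe_one, id_eq,
    show ∀ q, (Equiv.symm (1 : Equiv.Perm GolayPt)) q = q from fun _ => rfl, h p]
  split_ifs <;> simp

/-- The generators of a large subgroup of the centralizer. -/
noncomputable def gen : Fin 4 → ↥C0
  | 0 => ⟨mono (monSigma 0) (monCode_mem 0), commute_eps_mono _ _ fun p => by
      rw [monSigma_symm]; exact (mon_facts 0).2.2.2 p⟩
  | 1 => ⟨mono (monSigma 1) (monCode_mem 1), commute_eps_mono _ _ fun p => by
      rw [monSigma_symm]; exact (mon_facts 1).2.2.2 p⟩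
  | 2 => ⟨mono (monSigma 2) (monCode_mem 2), commute_eps_mono _ _ fun p => by
      rw [monSigma_symm]; exact (mon_facts 2).2.2.2 p⟩
  | 3 => ⟨xi, by
      rw [mem_C0]
      refine ext_frame fun i => Subtype.ext ?_
      rw [mul_smul, mul_smul, coe_xi_smul, coe_epsO_smul, coe_epsO_smul, coe_xi_smul,
        xiFun_flip (frame i).2]⟩

/-- The image of a coordinate vector under a tabulated monomial map. -/
def monVec (li : List ℕ) (c : ℕ) (x : GolayPt → ℤ) (p : GolayPt) : ℤ :=
  if p ∈ toSet c then -x (pt (li.getD (idx p) 0)) else x (pt (li.getD (idx p) 0))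

theorem mon_cols : ∀ k : Fin 3, ∀ i j : I8,
    psi (monVec (monTab.getD k.val ([], 0)).1 (monTab.getD k.val ([], 0)).2 (hv j)) i =
      colMat (colsTab.getD k.val []) i j := by
  decide +kernel

theorem xi_cols : ∀ i j : I8, psi (xiFun (hv j)) i = colMat (colsTab.getD 3 []) i j := by
  decide +kernel

theorem matG_mono (k : Fin 3) (h : mono (monSigma k) (monCode_mem k) ∈ C0) (i j : I8) :
    matG ⟨_, h⟩ i j = colMat (colsTab.getD k.val []) i j := by
  rw [← mon_cols k i j]
  show psi _ i = _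
  congr 1
 
theorem matG_gen (k : Fin 4) (i j : I8) : matG (gen k) i j = colMat (colsTab.getD k.val []) i j := by
  match k with
  | 0 => exact matG_mono 0 _ i j
  | 1 => exact matG_mono 1 _ i j
  | 2 => exact matG_mono 2 _ i j
  | 3 => exact xi_cols i j

theorem act_gen (k : Fin 4) {x : ℕ} (hx : x < 256) :
    act (rep8 (gen k)) (vb x) = vb (actN (colsTab.getD k.val []) x) := by
  funext i
  rw [← colMat_act k ⟨x, hx⟩ i]
  show ∑ j, matG (gen k) i j * vb x j = _
  exact Finset.sum_congr rfl fun j _ => by rw [matG_gen]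

/-! ### The image -/

theorem dt_facts : isPermTab dtTab = true ∧ checkAut dtTab = true ∧ comp dtTab dtTab = idTab ∧
    (∀ p : GolayPt, (pt (dtTab.getD (idx p) 0) ∈ octO ↔ p ∈ octO)) ∧
    (∀ i j : I8, psi (monVec dtTab 0 (hv j)) i =
      vb (reflN codeA (reflN codeB (2 ^ num j))) i) ∧
    (∀ j : I8, vb (2 ^ num j) = Pi.single j 1) := by
  decide +kernel

/-- The image of the centralizer. -/
noncomputable def img : Subgroup O8 := rep8.range

theorem base_pair_mem : refl Q8 (vb codeA) * refl Q8 (vb codeB) ∈ img := by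
  obtain ⟨h1, h2, h3, h4, h5, h6⟩ := dt_facts
  set σ : M24 := ⟨permOf dtTab h1, (tab_permOf h1).mem_M24 h2⟩
  have hinv : ∀ p, σ.1.symm p = pt (dtTab.getD (idx p) 0) := by
    intro p
    rw [Equiv.symm_apply_eq]
    have hsq : σ.1 * σ.1 = 1 :=
      Golay.tab_unique (h3 ▸ (tab_permOf h1).mul (tab_permOf h1)) Golay.tab_one
    rw [show pt (dtTab.getD (idx p) 0) = σ.1 p from ((tab_permOf h1).apply p).symm,
      ← Equiv.Perm.mul_apply, hsq, Equiv.Perm.one_apply]
  have hmem : mono σ empty_mem_code ∈ C0 := commute_eps_mono _ _ fun p => by rw [hinv]; exact h4 p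
  refine ⟨⟨_, hmem⟩, eq_of_mat (Matrix.ext fun i j => ?_)⟩
  rw [mat_rep8]
  have e : matG ⟨_, hmem⟩ i j = psi (monVec dtTab 0 (hv j)) i := by
    show psi _ i = _
    congr 1
    funext p
    show signedPerm σ.1 ∅ (hv j) p = _
    simp only [signedPerm, monVec, hinv]
    have : toSet 0 = (∅ : Finset GolayPt) := by decide +kernel
    simp [this]
  rw [e, h5]
  have hA : qN codeA = true ∧ qN codeB = true ∧ codeA < 256 ∧ codeB < 256 ∧
      ∀ j : I8, 2 ^ num j < 256 := by decide +kernel
  obtain ⟨qa, qb, la, lb, lj⟩ := hA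
  have := act_mul (refl Q8 (vb codeA)) (refl Q8 (vb codeB)) (vb (2 ^ num j))
  rw [act_refl_vb lb (lj j) qb, act_refl_vb la (reflN_lt lb (lj j)) qa] at this
  rw [← this]
  unfold act
  rw [h6, Matrix.mulVec_single_one]
  rfl

/-- The pairs derived by the conjugation steps. -/
def evalPairs : List (ℕ × ℕ) → List (ℕ × ℕ) → List (ℕ × ℕ)
  | acc, [] => acc
  | acc, (p, k) :: r => evalPairs (acc ++
      [(actN (colsTab.getD k []) (acc.getD p (0, 0)).1, actN (colsTab.getD k []) (acc.getD p (0, 0)).2)]) r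

/-- Each step refers to an earlier pair. -/
def stepsOK : ℕ → List (ℕ × ℕ) → Bool
  | _, [] => true
  | n, (p, _) :: r => Nat.blt p n && stepsOK (n + 1) r

/-- A pair of reflections in the image. -/
def PairIn (ab : ℕ × ℕ) : Prop :=
  ab.1 < 256 ∧ ab.2 < 256 ∧ qN ab.1 = true ∧ qN ab.2 = true ∧
    refl Q8 (vb ab.1) * refl Q8 (vb ab.2) ∈ img

theorem qN_act (k : Fin 4) {x : ℕ} (hx : x < 256) :
    qN (actN (colsTab.getD k.val []) x) = qN x := by
  have h : ∀ k : Fin 4, ∀ x : Fin 256, qN (actN (colsTab.getD k.val []) x.val) = qN x.val := by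
    decide +kernel
  exact h k ⟨x, hx⟩

theorem evalPairs_sound : ∀ (st : List (ℕ × ℕ)) (acc : List (ℕ × ℕ)), (∀ ab ∈ acc, PairIn ab) →
    (∀ pk ∈ st, pk.2 < 4) → stepsOK acc.length st = true → ∀ ab ∈ evalPairs acc st, PairIn ab
  | [], acc, h, _, _ => h
  | (p, k) :: r, acc, h, hk, hne => by
    simp only [stepsOK, Bool.and_eq_true, Nat.blt_eq] at hne
    obtain ⟨hp, hrest⟩ := hne
    rw [evalPairs]
    refine evalPairs_sound r _ ?_ (fun pk hpk => hk pk (List.mem_cons_of_mem _ hpk))
      (by rw [List.length_append, List.length_singleton]; exact hrest)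
    intro ab hab
    rcases List.mem_append.1 hab with hab | hab
    · exact h ab hab
    · rw [List.mem_singleton] at hab
      subst hab
      have hk4 : k < 4 := hk (p, k) (List.mem_cons_self)
      rw [List.getD_eq_getElem _ _ hp]
      obtain ⟨la, lb, qa, qb, hm⟩ := h _ (List.getElem_mem hp)
      refine ⟨actN_lt ⟨k, hk4⟩ ⟨_, la⟩, actN_lt ⟨k, hk4⟩ ⟨_, lb⟩,
        (qN_act ⟨k, hk4⟩ la).trans qa, (qN_act ⟨k, hk4⟩ lb).trans qb, ?_⟩
      have h1 := conj_refl (rep8 (gen ⟨k, hk4⟩)) (Q_ne_zero la qa)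
      have h2 := conj_refl (rep8 (gen ⟨k, hk4⟩)) (Q_ne_zero lb qb)
      rw [act_gen ⟨k, hk4⟩ la] at h1
      rw [act_gen ⟨k, hk4⟩ lb] at h2
      rw [← h1, ← h2]
      have hgI : rep8 (gen ⟨k, hk4⟩) ∈ img := ⟨_, rfl⟩
      have := mul_mem (mul_mem hgI hm) (inv_mem hgI)
      convert this using 1
      group

/-- The vertices reached by the tree. -/
def treeOK (pairs : List (ℕ × ℕ)) : List ℕ → List (ℕ × ℕ × ℕ) → Option (List ℕ)
  | seen, [] => some seen
  | seen, (v, u, i) :: r =>
    if seen.contains u && Nat.blt i pairs.length &&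
        (pairs.getD i (0, 0) == (u, v) || pairs.getD i (0, 0) == (v, u)) then
      treeOK pairs (v :: seen) r
    else none

theorem treeOK_sound (pairs : List (ℕ × ℕ)) (hpairs : ∀ ab ∈ pairs, PairIn ab) :
    ∀ (st : List (ℕ × ℕ × ℕ)) (seen : List ℕ),
      (∀ v ∈ seen, refl Q8 (vb codeA) * refl Q8 (vb v) ∈ img) → ∀ out,
      treeOK pairs seen st = some out → ∀ v ∈ out, refl Q8 (vb codeA) * refl Q8 (vb v) ∈ img
  | [], seen, h, out, e => by simp only [treeOK, Option.some.injEq] at e; exact e ▸ h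
  | (v, u, i) :: r, seen, h, out, e => by
    rw [treeOK] at e
    split at e
    · rename_i hc
      simp only [Bool.and_eq_true, Bool.or_eq_true, beq_iff_eq, Nat.blt_eq,
        List.contains_iff_mem] at hc
      obtain ⟨⟨hu, hi⟩, hpair⟩ := hc
      refine treeOK_sound pairs hpairs r (v :: seen) ?_ out e
      intro w hw
      rcases List.mem_cons.1 hw with rfl | hw
      · rw [List.getD_eq_getElem _ _ hi] at hpair
        obtain ⟨la, lb, qa, qb, hm⟩ := hpairs _ (List.getElem_mem hi)
        rcases hpair with he | he <;> rw [he] at la lb qa qb hm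
        · have := mul_mem (h u hu) hm
          rwa [← mul_assoc, mul_assoc (refl Q8 (vb codeA)), refl_sq la qa, mul_one] at this
        · have := mul_mem (h u hu) (inv_mem hm)
          rwa [_root_.mul_inv_rev, refl_inv (Q_ne_zero lb qb), refl_inv (Q_ne_zero la qa),
            ← mul_assoc, mul_assoc (refl Q8 (vb codeA)), refl_sq lb qb, mul_one] at this
      · exact h w hw
    · exact absurd e (by simp)

theorem tree_facts :
    ((treeOK (evalPairs [(codeA, codeB)] conjSteps) [codeA] treeSteps).any fun out =>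
      (List.range 256).all fun v => !qN v || out.contains v) = true ∧
    conjSteps.all (fun pk => Nat.blt pk.2 4) = true ∧ stepsOK 1 conjSteps = true ∧ codeA < 256 ∧ codeB < 256 ∧
    qN codeA = true ∧ qN codeB = true := by
  decide +kernel

theorem commutator_le_img : commutator O8 ≤ img ∧
    ∀ g : O8, g ∈ commutator O8 ∨ g * refl Q8 (vb codeA) ∈ commutator O8 := by
  obtain ⟨h1, h2, h3, la, lb, qa, qb⟩ := tree_facts
  refine spans la qa fun v hv hq => ?_
  obtain ⟨out, hout, hall⟩ : ∃ out,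
      treeOK (evalPairs [(codeA, codeB)] conjSteps) [codeA] treeSteps = some out ∧
      ((List.range 256).all fun v => !qN v || out.contains v) = true := by
    cases hh : treeOK (evalPairs [(codeA, codeB)] conjSteps) [codeA] treeSteps with
    | none => rw [hh] at h1; simp at h1
    | some out => exact ⟨out, rfl, by rw [hh] at h1; simpa using h1⟩
  have hpairs := evalPairs_sound conjSteps [(codeA, codeB)] (by
    intro ab hab
    rw [List.mem_singleton] at hab
    subst hab
    exact ⟨la, lb, qa, qb, base_pair_mem⟩)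
    (fun pk hpk => by simpa using List.all_eq_true.1 h2 pk hpk) h3
  refine treeOK_sound _ hpairs treeSteps [codeA] (fun w hw => ?_) out hout v ?_
  · rw [List.mem_singleton] at hw
    rw [hw, refl_sq la qa]
    exact one_mem _
  · have := List.all_eq_true.1 hall v (List.mem_range.2 hv)
    rw [hq, Bool.not_true, Bool.false_or] at this
    exact List.contains_iff_mem.1 this

end Cfsg.Agent.Leech.Co1Cent
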